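import Cfsg.Agent.NoNormalEight.Local
import Cfsg.Prelude.Def_CaseTheorems

/-!
A 2-group without normal elementary abelian subgroups of order 8 has sectional rank at most 4.
-/

set_option autoImplicit false
set_option linter.style.haveILetI false
set_option linter.unusedSectionVars false
set_option linter.unusedVariables false
set_option linter.unusedTactic false
set_option linter.unreachableTactic false

namespace CfsgLib.NoNormalEight

open Subgroup
open scoped commutatorElement

universe u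

variable {P : Type u} [Group P] [Finite P]

namespace Ctx

variable (C : Ctx P)

/-- `C.K` inside a subgroup. -/
def Q (H : Subgroup P) : Subgroup H := C.K.subgroupOf H

instance Q_normal (H : Subgroup P) : (C.Q H).Normal := by
  haveI := C.K_normal
  exact inferInstanceAs (C.K.subgroupOf H).Normal

theorem index_frattini_Q (H : Subgroup P) : (frattini (C.Q H)).index ≤ 4 :=
  (index_frattini_le ((C.hP.to_subgroup H).to_subgroup _) (C.omega fun q hq => hq)).trans
    (C.card_omOne_le fun q hq => hq)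

/-- The involutions of `E` split as `1, u, w, u * w`. -/
theorem W_cases {u w z : P} (hu : u ∈ C.W) (hw : w ∈ C.W) (hu1 : u ≠ 1) (hw1 : w ≠ 1) (hwu : w ≠ u)
    (hz : z ∈ C.W) : z = 1 ∨ z = u ∨ z = w ∨ z = u * w := by
  classical
  by_contra h
  push Not at h
  obtain ⟨h1, h2, h3, h4⟩ := h
  have huw1 : u * w ≠ 1 := fun e => hwu (by
    rw [← mul_left_cancel (a := u) (b := w) (c := u) (by rw [e, ← pow_two, hu.2])])
  have huwu : u * w ≠ u := fun e => hw1 (mul_left_cancel (a := u) (by rw [e, mul_one]))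
  have huww : u * w ≠ w := fun e => hu1 (mul_right_cancel (b := w) (by rw [e, one_mul]))
  let f : Fin 5 → C.W := ![⟨1, one_mem _⟩, ⟨u, hu⟩, ⟨w, hw⟩, ⟨u * w, mul_mem hu hw⟩, ⟨z, hz⟩]
  have hf : Function.Injective f := by
    intro i j hij
    have e := congrArg Subtype.val hij
    fin_cases i <;> fin_cases j <;> simp [f] at e ⊢ <;>
      first
        | exact hu1 e | exact hu1 e.symm | exact hw1 e | exact hw1 e.symm | exact hwu e
        | exact hwu e.symm | exact huw1 e | exact huw1 e.symm | exact h1 e | exact h1 e.symm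
        | exact h2 e | exact h2 e.symm | exact h3 e | exact h3 e.symm | exact h4 e | exact h4 e.symm
  have := (Nat.card_le_card_of_injective f hf).trans C.card_W
  rw [Nat.card_fin] at this
  omega

/-- Outside `C.L` conjugation is a transvection with central centre. -/
theorem exists_centre : ∃ u ∈ C.W, (∀ g : P, g * u * g⁻¹ = u) ∧ (C.W ≠ ⊥ → u ≠ 1) ∧
    (∀ g, g ∉ C.L → ∀ w ∈ C.W, w ≠ 1 → w ≠ u → g * w * g⁻¹ = u * w) := by
  haveI := C.hP.isNilpotent
  haveI := C.W_normal
  by_cases hW : C.W = ⊥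
  · refine ⟨1, one_mem _, fun g => by group, fun h => absurd hW h, fun g hg w hw hw1 _ => ?_⟩
    rw [hW, mem_bot] at hw
    exact absurd hw hw1
  obtain ⟨u, hu, hu1⟩ := (bot_or_exists_ne_one _).resolve_left
    (CfsgLib.PGroupBasic.inf_center_ne_bot C.W hW)
  have hcent : ∀ g : P, g * u * g⁻¹ = u := fun g => by
    rw [(mem_center_iff.1 hu.2 g), mul_inv_cancel_right]
  refine ⟨u, hu.1, hcent, fun _ => hu1, fun g hg w hw hw1 hwu => ?_⟩
  rcases C.W_cases hu.1 hw hu1 hw1 hwu (C.W_normal.conj_mem w hw g) with e | e | e | e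
  · exact absurd (conj_eq_one_iff.1 e) hw1
  · exact absurd (mul_left_cancel (mul_right_cancel (e.trans (hcent g).symm))) hwu
  · refine absurd (mem_centralizer_iff.2 fun z hz => ?_) hg
    have hgu : u * g = g * u := (mem_center_iff.1 hu.2 g).symm
    have hgw : w * g = g * w := by rw [← mul_inv_eq_iff_eq_mul.1 e]
    rcases C.W_cases hu.1 hw hu1 hw1 hwu hz with rfl | rfl | rfl | rfl
    · rw [one_mul, mul_one]
    · exact hgu
    · exact hgw
    · rw [mul_assoc, hgw, ← mul_assoc, hgu, mul_assoc]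
  · exact e

/-- Two elements outside `C.L` multiply into it. -/
theorem mul_mem_L {g h : P} (hg : g ∉ C.L) (hh : h ∉ C.L) : g * h ∈ C.L := by
  obtain ⟨u, hu, hcent, hu1, htr⟩ := C.exists_centre
  refine mem_centralizer_iff.2 fun w hw => ?_
  have key : g * h * w * (g * h)⁻¹ = w := by
    have e : g * h * w * (g * h)⁻¹ = g * (h * w * h⁻¹) * g⁻¹ := by group
    rw [e]
    by_cases hw1 : w = 1
    · subst hw1; group
    by_cases hwu : w = u
    · subst hwu; rw [hcent h, hcent g]
    have huW : u ≠ 1 := hu1 fun hb => hw1 (by simpa [hb] using hw)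
    rw [htr h hh w hw hw1 hwu, ← conj_mul, hcent g, htr g hg w hw hw1 hwu, ← mul_assoc, ← pow_two,
      hu.2, one_mul]
  exact (mul_inv_eq_iff_eq_mul.1 key).symm

theorem L_relIndex_le (H : Subgroup P) : (C.L.subgroupOf H).index ≤ 2 := by
  by_cases h : C.L.subgroupOf H = ⊤
  · rw [h, index_top]; omega
  obtain ⟨s, hs⟩ : ∃ s : H, s ∉ C.L.subgroupOf H := by
    by_contra hh
    push Not at hh
    exact h (eq_top_iff.2 fun x _ => hh x)
  refine (index_eq_two_iff.2 ⟨s, fun b => ?_⟩).le
  by_cases hb : b ∈ C.L.subgroupOf H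
  · refine Or.inr ⟨hb, fun h' => hs ?_⟩
    have := mul_mem (inv_mem hb) h'
    rwa [inv_mul_cancel_left] at this
  · exact Or.inl ⟨C.mul_mem_L hb hs, hb⟩

theorem Q_le_L (H : Subgroup P) : C.Q H ≤ C.L.subgroupOf H := fun x hx => C.K_le_L hx

theorem index_Q (H : Subgroup P) : (C.Q H).index =
    ((C.Q H).subgroupOf (C.L.subgroupOf H)).index * (C.L.subgroupOf H).index :=
  (relIndex_mul_index (C.Q_le_L H)).symm

end Ctx

variable {C : Ctx P}

/-- The case where `E` is not homocyclic of type `(4, 4)`. -/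
theorem small_case (C : Ctx P) (a : P) (ha : a ∈ C.E)
    (hgen : ∀ e ∈ C.E, e ∈ C.W ∨ a⁻¹ * e ∈ C.W) (H : Subgroup P)
    (h8 : 8 ≤ ((C.Q H) ⊔ frattini H).index) : False := by
  set Lh := C.L.subgroupOf H with hLh
  have hxL : ∀ x : Lh, ((x : H) : P) ∈ C.L := fun x => x.2
  have hle : ((C.Q H) ⊔ frattini H).index ≤ (C.Q H).index :=
    Nat.le_of_dvd (Nat.pos_of_ne_zero index_ne_zero_of_finite) (index_dvd_of_le le_sup_left)
  let f : Lh →* C.W :=
    { toFun := fun x => ⟨⁅((x : H) : P), a⁆, C.comm_mem_W (hxL x) ha⟩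
      map_one' := Subtype.ext (by simp)
      map_mul' := fun x y => Subtype.ext (by
        show ⁅((x : H) : P) * ((y : H) : P), a⁆ = _
        rw [C.comm_mul_left (hxL x) (hxL y) ha]
        exact (C.comm _ (C.comm_mem_W (hxL y) ha).1 _ (C.comm_mem_W (hxL x) ha).1).eq) }
  have hker : f.ker = (C.Q H).subgroupOf Lh := by
    ext x
    rw [MonoidHom.mem_ker]
    constructor
    · intro h
      have h' : ⁅((x : H) : P), a⁆ = 1 := congrArg Subtype.val h
      refine mem_centralizer_iff.2 fun e he => ?_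
      refine (commutatorElement_eq_one_iff_mul_comm.1 ?_).symm
      show ⁅((x : H) : P), e⁆ = 1
      rcases hgen e he with hw | hw
      · exact C.comm_W_eq_one (hxL x) hw
      · rw [show e = a * (a⁻¹ * e) by group, C.comm_mul_right (hxL x) ha hw.1, h',
          C.comm_W_eq_one (hxL x) hw, one_mul]
    · intro h
      exact Subtype.ext (commutatorElement_eq_one_iff_mul_comm.2 (C.commute_K ha h).symm.eq)
  have hrange : ((C.Q H).subgroupOf Lh).index = Nat.card f.range := by rw [← hker, index_ker]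
  have hrle : Nat.card f.range ≤ Nat.card C.W := Nat.card_le_card_of_injective _ Subtype.val_injective
  have hidx : (C.Q H).index = ((C.Q H).subgroupOf Lh).index * Lh.index := C.index_Q H
  rw [hrange] at hidx
  have hW4 := C.card_W
  have hL2 : Lh.index ≤ 2 := C.L_relIndex_le H
  obtain ⟨u, hu, hcent, hu1, htr⟩ := C.exists_centre
  by_cases hW2 : Nat.card C.W ≤ 2
  · have hLtop : Lh = ⊤ := by
      refine eq_top_iff.2 fun g _ => ?_
      refine mem_centralizer_iff.2 fun w hw => ?_
      by_cases hw1 : w = 1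
      · subst hw1; simp
      have hWne : C.W ≠ ⊥ := fun hb => hw1 (by simpa [hb] using hw)
      by_cases hwu : w = u
      · subst hwu
        exact (mul_inv_eq_iff_eq_mul.1 (hcent (g : P))).symm
      exfalso
      let f' : Fin 3 → C.W := ![⟨1, one_mem _⟩, ⟨u, hu⟩, ⟨w, hw⟩]
      have hu1' := hu1 hWne
      have hf : Function.Injective f' := by
        intro i j hij
        have e := congrArg Subtype.val hij
        fin_cases i <;> fin_cases j <;> simp [f'] at e ⊢ <;>
          first
            | exact hu1' e | exact hu1' e.symm | exact hw1 e | exact hw1 e.symm | exact hwu e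
            | exact hwu e.symm
      have := Nat.card_le_card_of_injective f' hf
      rw [Nat.card_fin] at this
      omega
    have h1 : Lh.index = 1 := by rw [hLtop, index_top]
    rw [h1, mul_one] at hidx
    omega
  have hidx8 : (C.Q H).index = 8 ∧ Nat.card f.range = Nat.card C.W ∧ Lh.index = 2 := by
    have : Nat.card f.range * Lh.index ≤ 4 * 2 := Nat.mul_le_mul (hrle.trans hW4) hL2
    have h1 : Lh.index = 2 := by
      by_contra h1
      have : Nat.card f.range * Lh.index ≤ 4 * 1 :=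
        Nat.mul_le_mul (hrle.trans hW4) (by omega)
      omega
    refine ⟨by omega, ?_, h1⟩
    rw [h1] at hidx
    omega
  have hFQ : frattini H ≤ C.Q H := by
    have : C.Q H = C.Q H ⊔ frattini H := by
      refine eq_of_le_of_card_ge le_sup_left ?_
      have e1 := (C.Q H).card_mul_index
      have e2 := (C.Q H ⊔ frattini H).card_mul_index
      rw [← e1, show (C.Q H ⊔ frattini H).index = (C.Q H).index by omega] at e2
      exact (Nat.eq_of_mul_eq_mul_right (Nat.pos_of_ne_zero index_ne_zero_of_finite) e2).le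
    rw [this]; exact le_sup_right
  have hftop : f.range = ⊤ := eq_top_of_card_eq _ hidx8.2.1
  obtain ⟨g, hg⟩ : ∃ g : H, g ∉ Lh := by
    by_contra hh
    push Not at hh
    have := hidx8.2.2
    rw [show Lh = ⊤ from eq_top_iff.2 fun x _ => hh x, index_top] at this
    omega
  obtain ⟨w, hw, hw1, hwu⟩ : ∃ w ∈ C.W, w ≠ 1 ∧ w ≠ u := by
    by_contra hh
    push Not at hh
    apply hW2
    let f' : C.W → Fin 2 := fun x => by classical exact if (x : P) = 1 then 0 else 1
    have hf : Function.Injective f' := by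
      intro x y hxy
      refine Subtype.ext ?_
      by_cases hx : (x : P) = 1 <;> by_cases hy : (y : P) = 1 <;> simp [f', hx, hy] at hxy ⊢
      exact Subtype.ext ((hh x x.2 hx).trans (hh y y.2 hy).symm)
    have := Nat.card_le_card_of_injective f' hf
    rwa [Nat.card_fin] at this
  obtain ⟨x, hx⟩ : (⟨w, hw⟩ : C.W) ∈ f.range := hftop ▸ mem_top _
  have hxa : ⁅((x : H) : P), a⁆ = w := congrArg Subtype.val hx
  have hcq : g * (x : H) * g⁻¹ * (x : H)⁻¹ ∈ C.Q H := hFQ <|
    (CfsgLib.PGroupBasic.commutator_pow_le_frattini (p := 2) (C.hP.to_subgroup H)).1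
      (by
        rw [_root_.commutator_def, ← commutatorElement_def]
        exact commutator_mem_commutator (mem_top g) (mem_top (x : H)))
  have hgx : (g : P) * ((x : H) : P) * (g : P)⁻¹ ∈ C.L := C.L_normal.conj_mem _ (hxL x) _
  have hy : ⁅(g : P) * ((x : H) : P) * (g : P)⁻¹, a⁆ = w := by
    have hk : (g : P) * ((x : H) : P) * (g : P)⁻¹ * ((x : H) : P)⁻¹ ∈ C.K := hcq
    have e : (g : P) * ((x : H) : P) * (g : P)⁻¹ =
      (g : P) * ((x : H) : P) * (g : P)⁻¹ * ((x : H) : P)⁻¹ * ((x : H) : P) := by group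
    rw [e, C.comm_mul_left (C.K_le_L hk) (hxL x) ha, hxa,
      show ⁅(g : P) * ((x : H) : P) * (g : P)⁻¹ * ((x : H) : P)⁻¹, a⁆ = 1 from
        commutatorElement_eq_one_iff_mul_comm.2 (C.commute_K ha hk).symm.eq, mul_one]
  have hga : (g : P)⁻¹ * a * g ∈ C.E := by simpa using C.normal.conj_mem a ha (g : P)⁻¹
  have e : ⁅(g : P) * ((x : H) : P) * (g : P)⁻¹, a⁆ =
      (g : P) * ⁅((x : H) : P), (g : P)⁻¹ * a * g⁆ * (g : P)⁻¹ := by
    simp only [commutatorElement_def]; group
  rw [e] at hy
  rcases hgen _ hga with h | h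
  · rw [C.comm_W_eq_one (hxL x) h] at hy
    exact hw1 (by rw [← hy]; group)
  · rw [show (g : P)⁻¹ * a * g = a * (a⁻¹ * ((g : P)⁻¹ * a * g)) by group,
      C.comm_mul_right (hxL x) ha h.1, C.comm_W_eq_one (hxL x) h, mul_one, hxa, htr g hg w hw hw1 hwu] at hy
    exact hu1 (fun hb => hw1 (by simpa [hb] using hw))
      (mul_right_cancel (b := w) (by rw [hy, one_mul]))

namespace Coord

variable (B : Coord C)

/-- The endomorphisms induced by the elements of a subgroup. -/
def img (H : Subgroup P) : AddSubgroup End2 where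
  carrier := {m | ∃ x ∈ H, x ∈ C.L ∧ B.psi x = m}
  zero_mem' := ⟨1, one_mem _, one_mem _, B.psi_one⟩
  add_mem' := fun {m n} hm hn => by
    obtain ⟨x, hx, hxL, rfl⟩ := hm
    obtain ⟨y, hy, hyL, rfl⟩ := hn
    exact ⟨x * y, mul_mem hx hy, mul_mem hxL hyL, B.psi_mul hxL hyL⟩
  neg_mem' := fun {m} hm => by
    obtain ⟨x, hx, hxL, rfl⟩ := hm
    exact ⟨x, hx, hxL, (neg_eq_of_add_eq_zero_left (add_self _)).symm⟩

theorem card_img (H : Subgroup P) :
    ((C.Q H).subgroupOf (C.L.subgroupOf H)).index = Nat.card (B.img H) := by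
  let f : (C.L.subgroupOf H) →* Multiplicative End2 :=
    { toFun := fun x => Multiplicative.ofAdd (B.psi ((x : H) : P))
      map_one' := congrArg Multiplicative.ofAdd B.psi_one
      map_mul' := fun x y => congrArg Multiplicative.ofAdd (B.psi_mul x.2 y.2) }
  have hker : f.ker = (C.Q H).subgroupOf (C.L.subgroupOf H) := by
    ext x
    rw [MonoidHom.mem_ker]
    exact ⟨fun h => B.mem_K_of_psi x.2 h, fun h => congrArg Multiplicative.ofAdd (B.psi_eq_zero_of_K h)⟩
  rw [← hker, index_ker]
  refine Nat.card_congr (Equiv.subtypeEquiv Multiplicative.toAdd fun m => ⟨?_, ?_⟩)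
  · rintro ⟨x, rfl⟩
    exact ⟨_, (x : H).2, x.2, rfl⟩
  · rintro ⟨x, hx, hxL, h⟩
    exact ⟨⟨⟨x, hx⟩, hxL⟩, Multiplicative.toAdd.injective h⟩

/-- An element of a tight subgroup inducing an invariant good endomorphism. -/
theorem tight (H : Subgroup P) (htight : (frattini H).subgroupOf (C.Q H) ≤ frattini (C.Q H))
    {x : P} (hxH : x ∈ H) (hx : x ∈ C.L) (hg : Good (B.psi x))
    (hinv : ∀ g : P, B.psi (g * x * g⁻¹) = B.psi x) : False := by
  obtain ⟨hc, hp⟩ := CfsgLib.PGroupBasic.commutator_pow_le_frattini (p := 2) (C.hP.to_subgroup H)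
  set X : H := ⟨x, hxH⟩
  set z : C.Q H := ⟨X ^ 2, B.sq_mem_K hx⟩
  set σ : MulAut (C.Q H) := MulAut.conjNormal X⁻¹ with hσdef
  have hσ : ∀ q : C.Q H, ((σ q : C.Q H) : H) = X⁻¹ * q * X := fun q => by
    rw [hσdef, MulAut.conjNormal_apply, inv_inv]
  obtain ⟨v, hv⟩ := descent ((C.hP.to_subgroup H).to_subgroup _) (C.omega fun q hq => hq)
    (C.card_omOne_le fun q hq => hq) σ z
    (Subtype.ext (by rw [hσ]; simp only [z]; group))
    (fun g => Subtype.ext (by
      rw [hσ, hσ, Subgroup.coe_mul, Subgroup.coe_mul, Subgroup.coe_inv]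
      simp only [z, pow_two, mul_inv_rev]
      group))
    (fun w hw => by
      have hw2 : ((w : H) : P) ^ 2 = 1 := by
        have := congrArg (fun q : C.Q H => ((q : H) : P)) hw
        simpa using this
      have hwW : ((w : H) : P) ∈ C.W := ⟨C.mem_E w.2 (four_of_sq hw2), hw2⟩
      refine Subtype.ext ?_
      rw [hσ]
      refine Subtype.ext ?_
      show x⁻¹ * ((w : H) : P) * x = _
      rw [mul_assoc, mem_centralizer_iff.1 hx _ hwW, inv_mul_cancel_left])
    (fun g => htight (by
      rw [mem_subgroupOf, Subgroup.coe_mul, Subgroup.coe_inv, hσ]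
      have := hc (commutator_mem_commutator (mem_top (g : H)⁻¹) (mem_top X⁻¹))
      rw [commutatorElement_def, inv_inv, inv_inv] at this
      simpa [mul_assoc] using this))
    (htight (by rw [mem_subgroupOf]; exact hp X))
  have hv' : ((x * ((v : H) : P)) ^ 2) ^ 2 = 1 := by
    have h1 := congrArg (fun q : C.Q H => ((q : H) : P)) hv
    simp only [Subgroup.coe_mul, SubmonoidClass.coe_pow, hσ, OneMemClass.coe_one, z] at h1
    rw [← h1]
    congr 1
    simp only [Subgroup.coe_inv, X, pow_two]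
    group
  rw [← pow_mul] at hv'
  have hvK : ((v : H) : P) ∈ C.K := v.2
  have hpsi : B.psi (x * ((v : H) : P)) = B.psi x := by
    rw [B.psi_mul hx (C.K_le_L hvK), B.psi_eq_zero_of_K hvK, add_zero]
  have hxv : x * ((v : H) : P) ∈ C.L := mul_mem hx (C.K_le_L hvK)
  refine B.contra hxv hv' (hpsi ▸ hg) fun g => ?_
  rw [hpsi]
  by_cases hgL : g ∈ C.L
  · rw [(B.psi_conj hxv).1 hgL, hpsi]
  · rw [(B.psi_conj hxv).2 hgL, hpsi, ← (B.psi_conj hx).2 hgL, hinv g]

include B in
/-- The case where `E` is homocyclic of type `(4, 4)`. -/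
theorem main (H : Subgroup P) (h8 : 8 ≤ (C.Q H ⊔ frattini H).index)
    (htight : (C.Q H ⊔ frattini H).index ≤ 8 →
      (frattini H).subgroupOf (C.Q H) ≤ frattini (C.Q H)) : False := by
  have hle : ((C.Q H) ⊔ frattini H).index ≤ (C.Q H).index :=
    Nat.le_of_dvd (Nat.pos_of_ne_zero index_ne_zero_of_finite) (index_dvd_of_le le_sup_left)
  have hidx := C.index_Q H
  rw [B.card_img H] at hidx
  have hL2 := C.L_relIndex_le H
  by_cases hPL : ∀ g : P, g ∈ C.L
  · have hinv : ∀ x ∈ C.L, ∀ g : P, B.psi (g * x * g⁻¹) = B.psi x := fun x hx g =>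
      (B.psi_conj hx).1 (hPL g)
    have hOm : ∀ m ∈ B.img H, ¬ Om m := by
      rintro _ ⟨x, -, hx, rfl⟩ hm
      exact B.contra hx (B.four_of_injective hx hm.2) hm.1 (hinv x hx)
    rw [show C.L.subgroupOf H = ⊤ from eq_top_iff.2 fun g _ => hPL g, index_top, mul_one] at hidx
    obtain ⟨m, hm, hgood⟩ := exists_good (A := B.img H) (by omega) hOm
    obtain ⟨x, hxH, hx, rfl⟩ := hm
    have := card_le_of_omg (A := B.img H) fun h => hOm _ h om_omg
    exact B.tight H (htight (by omega)) hxH hx hgood (hinv x hx)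
  push Not at hPL
  obtain ⟨s, hs⟩ := hPL
  have hfin : ∀ x ∈ H, x ∈ C.L → B.psi x = nilT → (C.Q H ⊔ frattini H).index ≤ 8 → False := by
    intro x hxH hx hT h
    refine B.tight H (htight h) hxH hx (hT ▸ good_nilT) fun g => ?_
    by_cases hg : g ∈ C.L
    · rw [(B.psi_conj hx).1 hg]
    · rw [(B.psi_conj hx).2 hg, hT, conjT_nilT]
  have hinvtop : ∀ m ∈ B.img ⊤, conjT m ∈ B.img ⊤ := by
    rintro _ ⟨x, -, hx, rfl⟩
    exact ⟨s * x * s⁻¹, mem_top _, C.L_normal.conj_mem x hx s, (B.psi_conj hx).2 hs⟩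
  have htop8 : Nat.card (B.img ⊤) ≤ 8 := by
    by_contra h
    obtain ⟨x, -, hx, hxT⟩ := nilT_mem_of_inv (A := B.img ⊤) (by omega) hinvtop
    refine h (card_le_of_omg fun ho => ?_)
    obtain ⟨y, -, hy, hyo⟩ := ho
    exact B.not_both hx hy hxT hyo
  have hAle : B.img H ≤ B.img ⊤ := fun m ⟨x, _, hx, e⟩ => ⟨x, mem_top x, hx, e⟩
  have hA8 : Nat.card (B.img H) ≤ 8 :=
    (Nat.card_le_card_of_injective _ (AddSubgroup.inclusion_injective hAle)).trans htop8
  by_cases hHL : ∀ g ∈ H, g ∈ C.L
  · rw [show C.L.subgroupOf H = ⊤ from eq_top_iff.2 fun g _ => hHL _ g.2, index_top, mul_one] at hidx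
    have hinvH : ∀ m ∈ B.img H, conjT m ∈ B.img H := by
      intro m hm
      have he : (B.img H : Set End2) = (B.img ⊤ : Set End2) := by
        refine Set.eq_of_subset_of_ncard_le hAle ?_ (Set.toFinite _)
        rw [← Nat.card_coe_set_eq, ← Nat.card_coe_set_eq]
        exact htop8.trans (by show 8 ≤ Nat.card (B.img H); omega)
      have h1 := hinvtop m (hAle hm)
      rw [← SetLike.mem_coe, ← he] at h1
      exact h1
    obtain ⟨x, hxH, hx, hT⟩ := nilT_mem_of_inv (A := B.img H) (by omega) hinvH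
    exact hfin x hxH hx hT (by omega)
  push Not at hHL
  obtain ⟨g, hgH, hg⟩ := hHL
  have hinvH : ∀ m ∈ B.img H, conjT m ∈ B.img H := by
    rintro _ ⟨x, hxH, hx, rfl⟩
    exact ⟨g * x * g⁻¹, mul_mem (mul_mem hgH hxH) (inv_mem hgH), C.L_normal.conj_mem x hx g,
      (B.psi_conj hx).2 hg⟩
  have hfix : (C.Q H).index ≤ (C.Q H ⊔ frattini H).index →
      ∀ m ∈ B.img H, conjT m = m := by
    intro he
    have hFQ : frattini H ≤ C.Q H := by
      have : C.Q H = C.Q H ⊔ frattini H := by
        refine eq_of_le_of_card_ge le_sup_left ?_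
        have e1 := (C.Q H).card_mul_index
        have e2 := (C.Q H ⊔ frattini H).card_mul_index
        rw [← e1, show (C.Q H ⊔ frattini H).index = (C.Q H).index by omega] at e2
        exact (Nat.eq_of_mul_eq_mul_right (Nat.pos_of_ne_zero index_ne_zero_of_finite) e2).le
      rw [this]; exact le_sup_right
    rintro _ ⟨x, hxH, hx, rfl⟩
    have hgx : g * x * g⁻¹ ∈ C.L := C.L_normal.conj_mem x hx g
    have hk : g * x * g⁻¹ * x⁻¹ ∈ C.K :=
      hFQ ((CfsgLib.PGroupBasic.commutator_pow_le_frattini (p := 2) (C.hP.to_subgroup H)).1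
        (commutator_mem_commutator (mem_top (⟨g, hgH⟩ : H)) (mem_top (⟨x, hxH⟩ : H))))
    rw [← (B.psi_conj hx).2 hg, show g * x * g⁻¹ = g * x * g⁻¹ * x⁻¹ * x by group,
      B.psi_mul (C.K_le_L hk) hx, B.psi_eq_zero_of_K hk, zero_add]
  have h2 : (C.L.subgroupOf H).index = 2 := by
    have hne : (C.L.subgroupOf H).index ≠ 1 := fun h1 => hg (by
      have : (⟨g, hgH⟩ : H) ∈ C.L.subgroupOf H := by rw [index_eq_one.1 h1]; trivial
      exact this)
    have := (C.L.subgroupOf H).index_ne_zero_of_finite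
    omega
  rw [h2] at hidx
  obtain ⟨j, hj⟩ := (C.hP.to_subgroup H).index (C.Q H ⊔ frattini H)
  have hj3 : (C.Q H ⊔ frattini H).index ≤ 8 := by
    by_contra h
    have h4 : 4 ≤ j := by
      by_contra h4
      have : 2 ^ j ≤ 2 ^ 3 := Nat.pow_le_pow_right two_pos (by omega)
      omega
    have h16 : 2 ^ 4 ≤ 2 ^ j := Nat.pow_le_pow_right two_pos h4
    have := card_fixed (A := B.img H) (hfix (by omega))
    omega
  by_cases h8A : 8 ≤ Nat.card (B.img H)
  · obtain ⟨x, hxH, hx, hT⟩ := nilT_mem_of_inv h8A hinvH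
    exact hfin x hxH hx hT hj3
  · have hA4 : Nat.card (B.img H) ≤ 4 := by
      obtain ⟨i, hi⟩ : ∃ i, Nat.card (B.img H) = 2 ^ i := by
        have := (B.img H).card_addSubgroup_dvd_card
        rw [card_end, show 16 = 2 ^ 4 from rfl, Nat.dvd_prime_pow Nat.prime_two] at this
        obtain ⟨i, -, hi⟩ := this
        exact ⟨i, hi⟩
      rw [hi]
      have : i ≤ 2 := by
        by_contra h
        exact h8A (hi ▸ Nat.pow_le_pow_right two_pos (show 3 ≤ i by omega))
      exact Nat.pow_le_pow_right two_pos this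
    obtain ⟨x, hxH, hx, hT⟩ := nilT_mem_of_fixed (A := B.img H) (by omega) (hfix (by omega))
    exact hfin x hxH hx hT hj3

end Coord

/-- Subgroups of a 2-group without normal elementary abelian subgroups of order 8 have Frattini
index at most 16. -/
theorem frattini_index (hP : IsPGroup 2 P)
    (hA : ∀ A : Subgroup P, A.Normal → IsMulCommutative A → (∀ a ∈ A, a ^ 2 = 1) → Nat.card A ≤ 4)
    (H : Subgroup P) : (frattini H).index ≤ 16 := by
  obtain ⟨C⟩ := exists_ctx hP hA
  by_contra hbig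
  set F := frattini H with hF
  set r := (F.subgroupOf (C.Q H)).index with hr
  have hFQ : frattini (C.Q H) ≤ F.subgroupOf (C.Q H) :=
    map_le_iff_le_comap.1 (frattini_map_le (hP.to_subgroup H) (C.Q H))
  have hr4 : r ≤ 4 := (Nat.le_of_dvd (Nat.pos_of_ne_zero index_ne_zero_of_finite)
    (index_dvd_of_le hFQ)).trans (C.index_frattini_Q H)
  have hprod : F.index = r * (C.Q H ⊔ F).index := by
    rw [← relIndex_mul_index (le_sup_right : F ≤ C.Q H ⊔ F), relIndex_sup_right]
    rfl
  have hA8 : 8 ≤ (C.Q H ⊔ F).index := by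
    obtain ⟨j, hj⟩ := (hP.to_subgroup H).index (C.Q H ⊔ F)
    by_contra h
    have hj2 : j ≤ 2 := by
      by_contra h3
      exact h (hj ▸ Nat.pow_le_pow_right two_pos (show 3 ≤ j by omega))
    have h4 : (C.Q H ⊔ F).index ≤ 4 := hj ▸ Nat.pow_le_pow_right two_pos hj2
    have := Nat.mul_le_mul hr4 h4
    omega
  have htight : (C.Q H ⊔ F).index ≤ 8 → F.subgroupOf (C.Q H) ≤ frattini (C.Q H) := by
    intro h
    refine (eq_of_le_of_card_ge hFQ ?_).ge
    have hr3 : 2 < r := by
      by_contra hr2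
      have := Nat.mul_le_mul (show r ≤ 2 by omega) h
      omega
    have hd := index_dvd_of_le hFQ
    have hΦ := C.index_frattini_Q H
    have hpos : 0 < (frattini (C.Q H)).index := Nat.pos_of_ne_zero index_ne_zero_of_finite
    have he : (frattini (C.Q H)).index = r := by
      obtain ⟨q, hq⟩ := hd
      rw [← hr] at hq
      have hq1 : q ≤ 1 := by
        by_contra hq2
        have := Nat.mul_le_mul hr3 (show 2 ≤ q by omega)
        omega
      rcases Nat.le_one_iff_eq_zero_or_eq_one.1 hq1 with rfl | rfl <;> omega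
    have e1 := (frattini (C.Q H)).card_mul_index
    have e2 := (F.subgroupOf (C.Q H)).card_mul_index
    rw [← e1, he, ← hr] at e2
    exact (Nat.eq_of_mul_eq_mul_right (by omega) e2).le
  by_cases hfull : 4 ≤ Nat.card C.W ∧ ∀ w ∈ C.W, ∃ e ∈ C.E, e ^ 2 = w
  · obtain ⟨u, hu, hcent, hu1, -⟩ := C.exists_centre
    have hne : C.W ≠ ⊥ := fun hb => by
      have := hfull.1
      rw [hb, card_bot] at this
      omega
    have hu1 := hu1 hne
    obtain ⟨v, hv, hv1, hvu⟩ : ∃ v ∈ C.W, v ≠ 1 ∧ v ≠ u := by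
      by_contra hh
      push Not at hh
      let f' : C.W → Fin 2 := fun x => by classical exact if (x : P) = 1 then 0 else 1
      have hf : Function.Injective f' := by
        intro x y hxy
        refine Subtype.ext ?_
        by_cases hx : (x : P) = 1 <;> by_cases hy : (y : P) = 1 <;> simp [f', hx, hy] at hxy ⊢
        exact Subtype.ext ((hh x x.2 hx).trans (hh y y.2 hy).symm)
      have := (Nat.card_le_card_of_injective f' hf)
      rw [Nat.card_fin] at this
      have := hfull.1
      omega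
    obtain ⟨a, ha, hau⟩ := hfull.2 u hu
    obtain ⟨b, hb, hbv⟩ := hfull.2 v hv
    have huv : u * v ≠ 1 ∧ u * v ≠ u ∧ u * v ≠ v := ⟨fun e => hvu (by
      rw [← mul_left_cancel (a := u) (b := v) (c := u) (by rw [e, ← pow_two, hu.2])]),
      fun e => hv1 (mul_left_cancel (a := u) (by rw [e, mul_one])),
      fun e => hu1 (mul_right_cancel (b := v) (by rw [e, one_mul]))⟩
    have hval1 : (1 : ZMod 2).val = 1 := rfl
    have hcases : ∀ c : V2, c = (0, 0) ∨ c = (1, 0) ∨ c = (0, 1) ∨ c = (1, 1) := by decide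
    refine Coord.main (C := C) ⟨a, b, ha, hb, ?_, ?_, fun g => by rw [hau]; exact hcent g⟩ H hA8 htight
    · intro c d h
      simp only [hau, hbv] at h
      rcases hcases c with rfl | rfl | rfl | rfl <;> rcases hcases d with rfl | rfl | rfl | rfl <;>
        simp [hval1] at h ⊢ <;>
        first
          | exact hu1 h | exact hu1 h.symm | exact hv1 h | exact hv1 h.symm | exact hvu h
          | exact hvu h.symm | exact huv.1 h | exact huv.1 h.symm | exact huv.2.1 h
          | exact huv.2.1 h.symm | exact huv.2.2 h | exact huv.2.2 h.symm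
    · intro w hw
      rw [hau, hbv]
      rcases C.W_cases hu hv hu1 hv1 hvu hw with rfl | rfl | rfl | rfl
      exacts [⟨(0, 0), by simp⟩, ⟨(1, 0), by simp [hval1]⟩, ⟨(0, 1), by simp [hval1]⟩,
        ⟨(1, 1), by simp [hval1]⟩]
  · obtain ⟨a, ha, hgen⟩ : ∃ a ∈ C.E, ∀ e ∈ C.E, e ∈ C.W ∨ a⁻¹ * e ∈ C.W := by
      by_cases h1 : ∀ e ∈ C.E, e ^ 2 = 1
      · exact ⟨1, one_mem _, fun e he => Or.inl ⟨he, h1 e he⟩⟩
      push Not at h1
      obtain ⟨a, ha, ha2⟩ := h1
      refine ⟨a, ha, fun e he => ?_⟩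
      by_cases he2 : e ^ 2 = 1
      · exact Or.inl ⟨he, he2⟩
      refine Or.inr ⟨mul_mem (inv_mem ha) he, ?_⟩
      rw [(C.comm _ (inv_mem ha) _ he).mul_pow, inv_pow, inv_mul_eq_one]
      by_contra hne
      apply hfull
      have hE : ∀ w ∈ C.W, w = 1 ∨ w = a ^ 2 ∨ w = e ^ 2 ∨ w = a ^ 2 * e ^ 2 := fun w hw =>
        C.W_cases (C.sq_mem_W ha) (C.sq_mem_W he) ha2 he2 (Ne.symm hne) hw
      refine ⟨?_, fun w hw => ?_⟩
      · let f : V2 → C.W := fun c => ⟨(a ^ 2) ^ c.1.val * (e ^ 2) ^ c.2.val,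
          mul_mem (pow_mem (C.sq_mem_W ha) _) (pow_mem (C.sq_mem_W he) _)⟩
        have h3 : a ^ 2 * e ^ 2 ≠ 1 := fun h => hne (mul_left_cancel (a := a ^ 2)
          (by rw [h, ← pow_two, (C.sq_mem_W ha).2]))
        have hf : Function.Injective f := by
          intro c d h
          have h := congrArg Subtype.val h
          have hval1 : (1 : ZMod 2).val = 1 := rfl
          have hcases : ∀ c : V2, c = (0, 0) ∨ c = (1, 0) ∨ c = (0, 1) ∨ c = (1, 1) := by decide
          rcases hcases c with rfl | rfl | rfl | rfl <;> rcases hcases d with rfl | rfl | rfl | rfl <;>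
            simp [f, hval1] at h ⊢ <;>
            first
              | exact ha2 h | exact ha2 h.symm | exact he2 h | exact he2 h.symm | exact hne h
              | exact hne h.symm | exact h3 h | exact h3 h.symm
        have := Nat.card_le_card_of_injective f hf
        rwa [Nat.card_eq_fintype_card, show Fintype.card V2 = 4 from rfl] at this
      · rcases hE w hw with rfl | rfl | rfl | rfl
        exacts [⟨1, one_mem _, one_pow 2⟩, ⟨a, ha, rfl⟩, ⟨e, he, rfl⟩,
          ⟨a * e, mul_mem ha he, (C.comm a ha e he).mul_pow 2⟩]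
    exact small_case C a ha hgen H hA8

/-- The sectional 2-rank is at most 4. -/
theorem sectional (hP : IsPGroup 2 P)
    (hA : ∀ A : Subgroup P, A.Normal → IsMulCommutative A → (∀ a ∈ A, a ^ 2 = 1) → Nat.card A ≤ 4) :
    Cfsg.SectionalPRankLE 2 4 P := by
  intro H N hN A hAc hAe
  set T := A.comap (QuotientGroup.mk' N) with hT
  set T' := T.map H.subtype with hT'
  let e : T' →* A := ((QuotientGroup.mk' N).subgroupComap A).comp
    (T.equivMapOfInjective H.subtype H.subtype_injective).symm.toMonoidHom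
  have hesurj : Function.Surjective e := by
    intro q
    obtain ⟨h, hh⟩ := QuotientGroup.mk'_surjective N (q : H ⧸ N)
    refine ⟨T.equivMapOfInjective H.subtype H.subtype_injective
      ⟨h, by rw [hT, mem_comap, hh]; exact q.2⟩, ?_⟩
    simp [e]
    exact Subtype.ext hh
  haveI : Fact (Nat.Prime 2) := ⟨Nat.prime_two⟩
  have hker : frattini T' ≤ e.ker := by
    refine CfsgLib.PGroupBasic.frattini_le_of_elementary (p := 2) _ ?_ fun x => ?_
    · rw [_root_.commutator_def, commutator_le]
      intro x _ y _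
      rw [MonoidHom.mem_ker, map_commutatorElement]
      exact commutatorElement_eq_one_iff_mul_comm.2 (hAc.is_comm.comm (e x) (e y))
    · rw [MonoidHom.mem_ker, map_pow]
      exact Subtype.ext (hAe (e x) (e x).2)
  calc Nat.card A = e.ker.index := by
        rw [index_ker, MonoidHom.range_eq_top.2 hesurj, card_top]
    _ ≤ (frattini T').index :=
        Nat.le_of_dvd (Nat.pos_of_ne_zero index_ne_zero_of_finite) (index_dvd_of_le hker)
    _ ≤ 2 ^ 4 := frattini_index hP hA T'

end CfsgLib.NoNormalEight
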