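import Mathlib.Data.ZMod.Basic
import Mathlib.GroupTheory.Index
import Mathlib.Data.Fintype.Prod

/-!
Endomorphisms of a four-group as pairs of vectors over `ZMod 2`, and the few facts about additive
subgroups of them used for 2-groups without normal elementary abelian subgroups of order 8.
-/

set_option autoImplicit false

namespace CfsgLib.NoNormalEight

/-- The four-group. -/
abbrev V2 := ZMod 2 × ZMod 2

/-- An endomorphism, given by the images of the two basis vectors. -/
abbrev End2 := V2 × V2

/-- Application. -/
def app (m : End2) (c : V2) : V2 := (c.1 * m.1.1 + c.2 * m.2.1, c.1 * m.1.2 + c.2 * m.2.2)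

/-- The transvection fixing the first basis vector. -/
def tV (c : V2) : V2 := (c.1 + c.2, c.2)

/-- Conjugation by the transvection. -/
def conjT (m : End2) : End2 := (tV m.1, tV (m.1 + m.2))

/-- The nilpotent endomorphism commuting with the transvection. -/
def nilT : End2 := ((0, 0), (1, 0))

/-- A fixed-point-free endomorphism with fixed-point-free shift. -/
def omg : End2 := ((0, 1), (1, 1))

/-- A nonzero endomorphism without non-trivial fixed vector. -/
def Good (m : End2) : Prop := m ≠ 0 ∧ ∀ c, app m c = c → c = 0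

/-- A good endomorphism with trivial kernel. -/
def Om (m : End2) : Prop := Good m ∧ ∀ c, app m c = 0 → c = 0

instance (m : End2) : Decidable (Good m) := inferInstanceAs (Decidable (_ ∧ _))

instance (m : End2) : Decidable (Om m) := inferInstanceAs (Decidable (_ ∧ _))

theorem exists_shift : ∀ m : End2, Good m → ∀ w : V2, ∃ c : V2, w + app m c + c = 0 := by decide

theorem good_nilT : Good nilT := by decide

theorem conjT_nilT : conjT nilT = nilT := by decide

theorem om_omg : Om omg := by decide

theorem omg_shift : ∀ c : V2, app omg c + app omg (app omg c) = 0 → c = 0 := by decide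

theorem omg_plus : ∀ c : V2, c + app omg c = 0 → c = 0 := by decide

theorem omg_kill : ∀ c : V2, app nilT c = 0 → app (nilT + omg) c = 0 → c = 0 := by decide

theorem add_self (m : End2) : m + m = 0 := by revert m; decide

theorem vadd_self (c : V2) : c + c = 0 := by revert c; decide

theorem app_add : ∀ m : End2, ∀ c d : V2, app m (c + d) = app m c + app m d := by decide

theorem app_add_left : ∀ m m' : End2, ∀ c : V2, app (m + m') c = app m c + app m' c := by decide

theorem card_end : Nat.card End2 = 16 := by
  rw [Nat.card_eq_fintype_card]; decide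

theorem card_le (A : AddSubgroup End2) : Nat.card A ≤ 16 := by
  rw [← card_end]
  exact Nat.card_le_card_of_injective _ Subtype.val_injective

theorem add_mem_of_card {A : AddSubgroup End2} (h : 8 ≤ Nat.card A) {m m' : End2} (hm : m ∉ A)
    (hm' : m' ∉ A) : m + m' ∈ A := by
  have e := A.card_mul_index
  rw [card_end] at e
  have hne : A.index ≠ 1 := fun h1 => hm (by rw [AddSubgroup.index_eq_one.1 h1]; trivial)
  have h2 : A.index = 2 := by
    have h0 : A.index ≠ 0 := fun h0 => by rw [h0, mul_zero] at e; omega
    have : A.index * 8 ≤ 16 := by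
      rw [← e, mul_comm (Nat.card A)]
      exact Nat.mul_le_mul_left _ h
    omega
  rw [AddSubgroup.add_mem_iff_of_index_two h2]
  exact ⟨fun h => absurd h hm, fun h => absurd h hm'⟩

/-- Facts used: with no `Om` element there are at most eight. -/
theorem card_le_of_omg {A : AddSubgroup End2} (h : omg ∉ A) : Nat.card A ≤ 8 := by
  have e := A.card_mul_index
  rw [card_end] at e
  have hne : A.index ≠ 1 := fun h1 => h (by rw [AddSubgroup.index_eq_one.1 h1]; trivial)
  have h0 : A.index ≠ 0 := fun h0 => by rw [h0, mul_zero] at e; omega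
  have : Nat.card A * 2 ≤ 16 := by
    rw [← e]
    exact Nat.mul_le_mul_left _ (by omega)
  omega

theorem exists_good {A : AddSubgroup End2} (h : 8 ≤ Nat.card A) (hOm : ∀ m ∈ A, ¬ Om m) :
    ∃ m ∈ A, Good m := by
  have h1 : omg ∉ A := fun hm => hOm _ hm om_omg
  have h2 : (((1, 1), (1, 0)) : End2) ∉ A := fun hm => hOm _ hm (by decide)
  have hI : omg + ((1, 1), (1, 0)) ∈ A := add_mem_of_card h h1 h2
  by_cases hn1 : (((0, 1), (0, 0)) : End2) ∈ A
  · exact ⟨_, hn1, by decide⟩
  by_cases hn2 : nilT ∈ A
  · exact ⟨_, hn2, good_nilT⟩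
  refine ⟨((1, 1), (1, 1)), ?_, by decide⟩
  have := add_mem (add_mem_of_card h hn1 hn2) hI
  rwa [show ((0, 1), (0, 0)) + nilT + (omg + ((1, 1), (1, 0))) = (((1, 1), (1, 1)) : End2) by decide]
    at this

theorem nilT_mem_of_inv {A : AddSubgroup End2} (h : 8 ≤ Nat.card A) (hinv : ∀ m ∈ A, conjT m ∈ A) :
    nilT ∈ A := by
  by_contra hT
  by_cases hm : (((1, 0), (0, 0)) : End2) ∈ A
  · exact hT (by
      have := add_mem hm (hinv _ hm)
      rwa [show ((1, 0), (0, 0)) + conjT ((1, 0), (0, 0)) = nilT by decide] at this)
  · have hm' := add_mem_of_card h hm hT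
    exact hT (by
      have := add_mem hm' (hinv _ hm')
      rwa [show ((1, 0), (0, 0)) + nilT + conjT (((1, 0), (0, 0)) + nilT) = nilT by decide] at this)

theorem fixed_cases : ∀ m : End2, conjT m = m →
    m = 0 ∨ m = nilT ∨ m = ((1, 0), (0, 1)) ∨ m = ((1, 0), (1, 1)) := by decide

theorem card_fixed {A : AddSubgroup End2} (hfix : ∀ m ∈ A, conjT m = m) : Nat.card A ≤ 4 := by
  have hsub : ∀ a : A, (a : End2) ∈
      ({0, nilT, ((1, 0), (0, 1)), ((1, 0), (1, 1))} : Finset End2) := fun a => by
    simpa using fixed_cases a (hfix a a.2)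
  refine (Nat.card_le_card_of_injective (fun a : A => (⟨a, hsub a⟩ :
    ({0, nilT, ((1, 0), (0, 1)), ((1, 0), (1, 1))} : Finset End2))) fun a b h => ?_).trans ?_
  · exact Subtype.ext (by simpa using congrArg Subtype.val h)
  · rw [Nat.card_eq_fintype_card, Fintype.card_coe]
    exact Finset.card_le_four

theorem nilT_mem_of_fixed {A : AddSubgroup End2} (h : 4 ≤ Nat.card A)
    (hfix : ∀ m ∈ A, conjT m = m) : nilT ∈ A := by
  by_contra hT
  have hsub : ∀ a : A, (a : End2) ∈
      ({0, ((1, 0), (0, 1)), ((1, 0), (1, 1))} : Finset End2) := fun a => by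
    rcases fixed_cases a (hfix a a.2) with e | e | e | e
    · simp [e]
    · exact absurd (e ▸ a.2) hT
    · simp [e]
    · simp [e]
  have := (Nat.card_le_card_of_injective (fun a : A => (⟨a, hsub a⟩ :
    ({0, ((1, 0), (0, 1)), ((1, 0), (1, 1))} : Finset End2))) fun a b h => by
      exact Subtype.ext (by simpa using congrArg Subtype.val h)).trans
    (Nat.le_of_eq (by rw [Nat.card_eq_fintype_card, Fintype.card_coe]))
  have h3 := Finset.card_le_three (a := (0 : End2)) (b := ((1, 0), (0, 1))) (c := ((1, 0), (1, 1)))
  omega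

end CfsgLib.NoNormalEight
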