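import Cfsg.Agent.NoNormalEight.OmegaCentral
import Cfsg.Agent.NoNormalEight.EndTwo
import Cfsg.Agent.Solvable.PGroupPower

/-!
A 2-group without normal elementary abelian subgroups of order 8: a maximal normal abelian subgroup
`E` of exponent 4 and the endomorphisms of `Ω₁(E)` induced by elements centralising it.
-/

set_option autoImplicit false
set_option linter.style.haveILetI false
set_option linter.unusedSectionVars false
set_option linter.unusedVariables false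

namespace CfsgLib.NoNormalEight

open Subgroup
open scoped commutatorElement

universe u

variable {P : Type u} [Group P] [Finite P]

/-- A normal abelian subgroup of exponent 4 containing every element of order dividing 4 of its
centralizer, in a 2-group without normal elementary abelian subgroups of order 8. -/
structure Ctx (P : Type u) [Group P] [Finite P] where
  hP : IsPGroup 2 P
  hA : ∀ A : Subgroup P, A.Normal → IsMulCommutative A → (∀ a ∈ A, a ^ 2 = 1) → Nat.card A ≤ 4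
  E : Subgroup P
  normal : E.Normal
  comm : ∀ a ∈ E, ∀ b ∈ E, Commute a b
  exp : ∀ a ∈ E, a ^ 4 = 1
  small : ∀ x ∈ centralizer (E : Set P), x ^ 4 = 1 → x ∈ E

theorem exists_ctx (hP : IsPGroup 2 P)
    (hA : ∀ A : Subgroup P, A.Normal → IsMulCommutative A → (∀ a ∈ A, a ^ 2 = 1) → Nat.card A ≤ 4) :
    Nonempty (Ctx P) := by
  obtain ⟨E, ⟨hE, hEc, hEe⟩, hmax⟩ := Set.Finite.exists_maximal
    (s := {X : Subgroup P | X.Normal ∧ IsMulCommutative X ∧ ∀ a ∈ X, a ^ 4 = 1})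
    (Set.toFinite _) ⟨⊥, inferInstance, ⟨⟨fun a b => Subsingleton.elim _ _⟩⟩,
      fun a ha => by rw [mem_bot.1 ha, one_pow]⟩
  haveI := hE
  haveI : Fact (Nat.Prime 2) := ⟨Nat.prime_two⟩
  refine ⟨⟨hP, hA, E, hE, fun a ha b hb => ?_, hEe, fun x hx hx4 => ?_⟩⟩
  · exact congrArg Subtype.val (hEc.is_comm.comm ⟨a, ha⟩ ⟨b, hb⟩)
  · exact CfsgLib.PGroupPower.alperin hP 2 (by norm_num) E hEc (fun a ha => by simpa using hEe a ha)
      (fun B hB hBc hBe hle => le_antisymm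
        (hmax ⟨hB, hBc, fun b hb => by simpa using hBe b hb⟩ hle) hle) x hx (by simpa using hx4)

namespace Ctx

variable (C : Ctx P)

/-- The centralizer of `E`. -/
def K : Subgroup P := centralizer (C.E : Set P)

theorem K_normal : C.K.Normal := by
  haveI := C.normal
  exact inferInstanceAs (centralizer (C.E : Set P)).Normal

/-- The involutions of `E`. -/
def W : Subgroup P where
  carrier := {x | x ∈ C.E ∧ x ^ 2 = 1}
  one_mem' := ⟨one_mem _, one_pow 2⟩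
  mul_mem' := fun {a b} ha hb =>
    ⟨mul_mem ha.1 hb.1, by rw [(C.comm a ha.1 b hb.1).mul_pow, ha.2, hb.2, one_mul]⟩
  inv_mem' := fun {a} ha => ⟨inv_mem ha.1, by rw [inv_pow, ha.2, inv_one]⟩

theorem mem_W {x : P} : x ∈ C.W ↔ x ∈ C.E ∧ x ^ 2 = 1 := Iff.rfl

theorem W_normal : C.W.Normal := by
  refine ⟨fun x hx g => ⟨C.normal.conj_mem x hx.1 g, ?_⟩⟩
  rw [conj_pow, hx.2, mul_one, mul_inv_cancel]

theorem card_W : Nat.card C.W ≤ 4 :=
  C.hA C.W C.W_normal ⟨⟨fun a b => Subtype.ext (C.comm a a.2.1 b b.2.1)⟩⟩ fun a ha => ha.2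

theorem E_le_K : C.E ≤ C.K := fun x hx =>
  mem_centralizer_iff.2 fun y hy => (C.comm y hy x hx).eq

theorem commute_K {e k : P} (he : e ∈ C.E) (hk : k ∈ C.K) : Commute e k :=
  mem_centralizer_iff.1 hk e he

theorem mem_E {k : P} (hk : k ∈ C.K) (h4 : k ^ 4 = 1) : k ∈ C.E := C.small k hk h4

theorem sq_mem_W {e : P} (he : e ∈ C.E) : e ^ 2 ∈ C.W :=
  ⟨pow_mem he 2, by rw [← pow_mul]; exact C.exp e he⟩

/-- Subgroups of the centralizer are `OmegaCentral`. -/
theorem omega {H : Subgroup P} {Q : Subgroup H} (hQ : ∀ q ∈ Q, (q : P) ∈ C.K) :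
    OmegaCentral Q := by
  intro x hx g
  have h4 : ((x : H) : P) ^ 4 = 1 := by
    have := congrArg (fun q : Q => ((q : H) : P)) hx
    simpa using this
  exact Subtype.ext (Subtype.ext (C.commute_K (C.mem_E (hQ x x.2) h4) (hQ g g.2)).eq)

theorem card_omOne_le {H : Subgroup P} {Q : Subgroup H} (hQ : ∀ q ∈ Q, (q : P) ∈ C.K) :
    Nat.card (omOne (C.omega hQ)) ≤ 4 := by
  have hsq : ∀ x : omOne (C.omega hQ), (((x : Q) : H) : P) ^ 2 = 1 := fun x => by
    have := congrArg (fun q : Q => ((q : H) : P)) x.2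
    simpa using this
  refine (Nat.card_le_card_of_injective (fun x : omOne (C.omega hQ) =>
    (⟨((x : Q) : H), C.mem_E (hQ _ (x : Q).2) (four_of_sq (hsq x)), hsq x⟩ : C.W))
    fun x y h => ?_).trans C.card_W
  exact Subtype.ext (Subtype.ext (Subtype.ext (congrArg Subtype.val h :)))

/-- The centralizer of the involutions of `E`. -/
def L : Subgroup P := centralizer (C.W : Set P)

theorem L_normal : C.L.Normal := by
  haveI := C.W_normal
  exact inferInstanceAs (centralizer (C.W : Set P)).Normal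

theorem K_le_L : C.K ≤ C.L := fun x hx =>
  mem_centralizer_iff.2 fun w hw => (C.commute_K hw.1 hx).eq

theorem comm_mem_W {x e : P} (hx : x ∈ C.L) (he : e ∈ C.E) : ⁅x, e⁆ ∈ C.W := by
  have h1 : x * e * x⁻¹ ∈ C.E := C.normal.conj_mem e he x
  refine ⟨?_, ?_⟩
  · rw [commutatorElement_def]; exact mul_mem h1 (inv_mem he)
  · rw [commutatorElement_def, (C.comm _ h1 _ (inv_mem he)).mul_pow, conj_pow,
      show x * e ^ 2 = e ^ 2 * x from (mem_centralizer_iff.1 hx _ (C.sq_mem_W he)).symm]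
    group

theorem comm_mul_left {x y e : P} (hx : x ∈ C.L) (hy : y ∈ C.L) (he : e ∈ C.E) :
    ⁅x * y, e⁆ = ⁅y, e⁆ * ⁅x, e⁆ := by
  have h := mem_centralizer_iff.1 hx _ (C.comm_mem_W hy he)
  calc ⁅x * y, e⁆ = x * ⁅y, e⁆ * x⁻¹ * ⁅x, e⁆ := by simp only [commutatorElement_def]; group
    _ = ⁅y, e⁆ * ⁅x, e⁆ := by rw [← h]; group

theorem comm_mul_right {x e f : P} (hx : x ∈ C.L) (he : e ∈ C.E) (hf : f ∈ C.E) :
    ⁅x, e * f⁆ = ⁅x, e⁆ * ⁅x, f⁆ := by
  have h := C.comm e he _ (C.comm_mem_W hx hf).1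
  calc ⁅x, e * f⁆ = ⁅x, e⁆ * (e * ⁅x, f⁆ * e⁻¹) := by simp only [commutatorElement_def]; group
    _ = ⁅x, e⁆ * ⁅x, f⁆ := by rw [h.eq]; group

theorem comm_W_eq_one {x w : P} (hx : x ∈ C.L) (hw : w ∈ C.W) : ⁅x, w⁆ = 1 :=
  commutatorElement_eq_one_iff_mul_comm.2 (mem_centralizer_iff.1 hx w hw).symm

end Ctx

/-- Coordinates when `E` is homocyclic of type `(4, 4)`. -/
structure Coord (C : Ctx P) where
  a : P
  b : P
  ha : a ∈ C.E
  hb : b ∈ C.E
  inj : Function.Injective fun c : V2 => (a ^ 2) ^ c.1.val * (b ^ 2) ^ c.2.val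
  surj : ∀ w ∈ C.W, ∃ c : V2, (a ^ 2) ^ c.1.val * (b ^ 2) ^ c.2.val = w
  fix : ∀ g : P, g * a ^ 2 * g⁻¹ = a ^ 2

namespace Coord

variable {C : Ctx P} (B : Coord C)

/-- The coordinate map. -/
def ι (c : V2) : P := (B.a ^ 2) ^ c.1.val * (B.b ^ 2) ^ c.2.val

theorem ι_mem (c : V2) : B.ι c ∈ C.W :=
  mul_mem (pow_mem (C.sq_mem_W B.ha) _) (pow_mem (C.sq_mem_W B.hb) _)

theorem pow_add {w : P} (hw : w ^ 2 = 1) (i j : ZMod 2) :
    w ^ (i + j).val = w ^ i.val * w ^ j.val := by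
  rw [← _root_.pow_add, ZMod.val_add, ← pow_eq_pow_mod _ hw]

theorem ι_add (c d : V2) : B.ι (c + d) = B.ι c * B.ι d := by
  have hu := C.sq_mem_W B.ha
  have hv := C.sq_mem_W B.hb
  simp only [ι, Prod.fst_add, Prod.snd_add, pow_add hu.2, pow_add hv.2]
  rw [mul_assoc, ← mul_assoc ((B.a ^ 2) ^ d.1.val),
    (C.comm _ (pow_mem hu.1 d.1.val) _ (pow_mem hv.1 c.2.val)).eq]
  group

theorem ι_zero : B.ι 0 = 1 := by simp [ι]

theorem ι_inv (c : V2) : (B.ι c)⁻¹ = B.ι c :=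
  inv_eq_of_mul_eq_one_left (by rw [← B.ι_add, vadd_self, B.ι_zero])

theorem ι_inj {c d : V2} (h : B.ι c = B.ι d) : c = d := B.inj h

theorem ι_surj {w : P} (hw : w ∈ C.W) : ∃ c, B.ι c = w := B.surj w hw

theorem ι_sq (c : V2) : (B.a ^ c.1.val * B.b ^ c.2.val) ^ 2 = B.ι c := by
  rw [(C.comm _ (pow_mem B.ha _) _ (pow_mem B.hb _)).mul_pow, ι]
  simp only [← pow_mul, mul_comm 2]

/-- The endomorphism induced by an element centralising the involutions of `E`. -/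
noncomputable def psi (x : P) : End2 :=
  (Function.invFun B.ι ⁅x, B.a⁆, Function.invFun B.ι ⁅x, B.b⁆)

theorem ι_psi {x : P} (hx : x ∈ C.L) :
    B.ι (B.psi x).1 = ⁅x, B.a⁆ ∧ B.ι (B.psi x).2 = ⁅x, B.b⁆ :=
  ⟨Function.invFun_eq (B.ι_surj (C.comm_mem_W hx B.ha)),
    Function.invFun_eq (B.ι_surj (C.comm_mem_W hx B.hb))⟩

theorem comm_eq {x e : P} (hx : x ∈ C.L) (he : e ∈ C.E) {c : V2} (hc : e ^ 2 = B.ι c) :
    ⁅x, e⁆ = B.ι (app (B.psi x) c) := by
  set f := B.a ^ c.1.val * B.b ^ c.2.val with hf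
  have hfE : f ∈ C.E := mul_mem (pow_mem B.ha _) (pow_mem B.hb _)
  have hw : f⁻¹ * e ∈ C.W :=
    ⟨mul_mem (inv_mem hfE) he, by
      rw [(C.comm _ (inv_mem hfE) _ he).mul_pow, inv_pow, hc, hf, B.ι_sq, inv_mul_cancel]⟩
  obtain ⟨h1, h2⟩ := B.ι_psi hx
  have key : ∀ (k : ZMod 2) (g : P) (d : V2), g ∈ C.E → ⁅x, g⁆ = B.ι d →
      ⁅x, g ^ k.val⁆ = B.ι (k * d.1, k * d.2) := by
    intro k g d _ hg
    rcases (show k = 0 ∨ k = 1 by revert k; decide) with rfl | rfl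
    · simp [ι]
    · simpa [show (1 : ZMod 2).val = 1 from rfl] using hg
  rw [show e = f * (f⁻¹ * e) by group, C.comm_mul_right hx hfE hw.1, C.comm_W_eq_one hx hw, mul_one,
    hf, C.comm_mul_right hx (pow_mem B.ha _) (pow_mem B.hb _), key c.1 _ _ B.ha h1.symm,
    key c.2 _ _ B.hb h2.symm, ← B.ι_add]
  rfl

theorem psi_mul {x y : P} (hx : x ∈ C.L) (hy : y ∈ C.L) : B.psi (x * y) = B.psi x + B.psi y := by
  obtain ⟨h1, h2⟩ := B.ι_psi (mul_mem hx hy)
  obtain ⟨h1x, h2x⟩ := B.ι_psi hx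
  obtain ⟨h1y, h2y⟩ := B.ι_psi hy
  rw [add_comm]
  refine Prod.ext (B.ι_inj ?_) (B.ι_inj ?_)
  · rw [h1, Prod.fst_add, B.ι_add, h1x, h1y, C.comm_mul_left hx hy B.ha]
  · rw [h2, Prod.snd_add, B.ι_add, h2x, h2y, C.comm_mul_left hx hy B.hb]

theorem psi_eq_zero_of_K {x : P} (hx : x ∈ C.K) : B.psi x = 0 := by
  obtain ⟨h1, h2⟩ := B.ι_psi (C.K_le_L hx)
  refine Prod.ext (B.ι_inj ?_) (B.ι_inj ?_)
  · rw [h1, Prod.fst_zero, B.ι_zero]
    exact commutatorElement_eq_one_iff_mul_comm.2 (C.commute_K B.ha hx).symm.eq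
  · rw [h2, Prod.snd_zero, B.ι_zero]
    exact commutatorElement_eq_one_iff_mul_comm.2 (C.commute_K B.hb hx).symm.eq

theorem mem_K_of_psi {x : P} (hx : x ∈ C.L) (h : B.psi x = 0) : x ∈ C.K := by
  refine mem_centralizer_iff.2 fun e he => ?_
  obtain ⟨c, hc⟩ := B.ι_surj (C.sq_mem_W he)
  have := B.comm_eq hx he hc.symm
  rw [h, (show ∀ c, app 0 c = 0 by decide) c, B.ι_zero, commutatorElement_eq_one_iff_mul_comm] at this
  exact this.symm

theorem psi_one : B.psi 1 = 0 := B.psi_eq_zero_of_K (one_mem _)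

theorem psi_inv {x : P} (hx : x ∈ C.L) : B.psi x⁻¹ = B.psi x := by
  have := B.psi_mul hx (inv_mem hx)
  rw [mul_inv_cancel, B.psi_one] at this
  calc B.psi x⁻¹ = B.psi x + (B.psi x + B.psi x⁻¹) := by rw [← add_assoc, add_self, zero_add]
    _ = B.psi x := by rw [← this, add_zero]

include B in
theorem sq_mem_K {x : P} (hx : x ∈ C.L) : x ^ 2 ∈ C.K :=
  B.mem_K_of_psi (pow_mem hx 2) (by rw [pow_two, B.psi_mul hx hx, add_self])

/-- Action of a conjugation on coordinates: identity on `L`, the transvection outside. -/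
theorem conj_ι_of_mem {g : P} (hg : g ∈ C.L) (c : V2) : g * B.ι c * g⁻¹ = B.ι c := by
  rw [← mem_centralizer_iff.1 hg _ (B.ι_mem c), mul_inv_cancel_right]

theorem conj_ι_of_not_mem {g : P} (hg : g ∉ C.L) (c : V2) :
    g * B.ι c * g⁻¹ = B.ι (tV c) := by
  have hu : B.a ^ 2 = B.ι (1, 0) := by simp [ι, show (1 : ZMod 2).val = 1 from rfl]
  have hv : B.b ^ 2 = B.ι (0, 1) := by simp [ι, show (1 : ZMod 2).val = 1 from rfl]
  obtain ⟨d, hd⟩ := B.ι_surj (C.W_normal.conj_mem _ (B.ι_mem (0, 1)) g)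
  have hu' : g * B.ι (1, 0) * g⁻¹ = B.ι (1, 0) := by rw [← hu]; exact B.fix g
  have hne : d ≠ (1, 0) ∧ d ≠ (0, 0) := by
    constructor <;> intro e <;> subst e
    · have := B.ι_inj (mul_left_cancel (mul_right_cancel (hd.symm.trans hu'.symm)))
      exact absurd this (by decide)
    · rw [show ((0, 0) : V2) = 0 from rfl, B.ι_zero] at hd
      have : B.ι (0, 1) = B.ι 0 := by
        rw [B.ι_zero]
        exact conj_eq_one_iff.1 hd.symm
      exact absurd (B.ι_inj this) (by decide)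
  have hlin : ∀ c, g * B.ι c * g⁻¹ = B.ι (app ((1, 0), d) c) := by
    have h00 : g * B.ι 0 * g⁻¹ = B.ι (app ((1, 0), d) 0) := by
      rw [(show ∀ m, app m 0 = 0 by decide), B.ι_zero, mul_one, mul_inv_cancel]
    have h10 : g * B.ι (1, 0) * g⁻¹ = B.ι (app ((1, 0), d) (1, 0)) := by
      rw [hu']; congr 1; simp [app]
    have h01 : g * B.ι (0, 1) * g⁻¹ = B.ι (app ((1, 0), d) (0, 1)) := by
      rw [← hd]; congr 1; simp [app]
    intro c
    rcases (show ∀ c : V2, c = 0 ∨ c = (1, 0) ∨ c = (0, 1) ∨ c = (1, 0) + (0, 1) by decide) c with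
      rfl | rfl | rfl | rfl
    · exact h00
    · exact h10
    · exact h01
    · rw [app_add, B.ι_add, B.ι_add, ← conj_mul, h10, h01]
  rcases (show ∀ d : V2, d = (0, 0) ∨ d = (1, 0) ∨ d = (0, 1) ∨ d = (1, 1) by decide) d with
    rfl | rfl | rfl | rfl
  · exact absurd rfl hne.2
  · exact absurd rfl hne.1
  · exfalso
    refine hg (mem_centralizer_iff.2 fun w hw => ?_)
    obtain ⟨c, rfl⟩ := B.ι_surj hw
    have := hlin c
    rw [(show ∀ c : V2, app ((1, 0), (0, 1)) c = c by decide) c, mul_inv_eq_iff_eq_mul] at this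
    exact this.symm
  · rw [hlin c]
    exact congrArg B.ι ((show ∀ c : V2, app ((1, 0), (1, 1)) c = tV c by decide) c)

theorem psi_conj {g x : P} (hx : x ∈ C.L) :
    (g ∈ C.L → B.psi (g * x * g⁻¹) = B.psi x) ∧
      (g ∉ C.L → B.psi (g * x * g⁻¹) = conjT (B.psi x)) := by
  have hgx : g * x * g⁻¹ ∈ C.L := C.L_normal.conj_mem x hx g
  have key : ∀ e ∈ C.E, ∀ c c' d : V2, e ^ 2 = B.ι c → g⁻¹ * B.ι c * g = B.ι c' →
      g * B.ι (app (B.psi x) c') * g⁻¹ = B.ι d → ⁅g * x * g⁻¹, e⁆ = B.ι d := by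
    intro e he c c' d hc hc' hd
    have he' : g⁻¹ * e * g ∈ C.E := by simpa using C.normal.conj_mem e he g⁻¹
    have hsq : (g⁻¹ * e * g) ^ 2 = B.ι c' := by
      rw [← hc', ← hc, pow_two, pow_two]; group
    rw [← hd, ← B.comm_eq hx he' hsq]
    simp only [commutatorElement_def]; group
  obtain ⟨h1, h2⟩ := B.ι_psi hgx
  have ha2 : B.a ^ 2 = B.ι (1, 0) := by simp [ι, show (1 : ZMod 2).val = 1 from rfl]
  have hb2 : B.b ^ 2 = B.ι (0, 1) := by simp [ι, show (1 : ZMod 2).val = 1 from rfl]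
  constructor
  · intro hg
    have hinv : ∀ c, g⁻¹ * B.ι c * g = B.ι c := fun c => by
      simpa using B.conj_ι_of_mem (inv_mem hg) c
    refine Prod.ext (B.ι_inj ?_) (B.ι_inj ?_)
    · rw [h1, key B.a B.ha _ _ _ ha2 (hinv _) (B.conj_ι_of_mem hg _)]
      congr 1; simp [app]
    · rw [h2, key B.b B.hb _ _ _ hb2 (hinv _) (B.conj_ι_of_mem hg _)]
      congr 1; simp [app]
  · intro hg
    have hinv : ∀ c, g⁻¹ * B.ι c * g = B.ι (tV c) := fun c => by
      simpa using B.conj_ι_of_not_mem (g := g⁻¹) (fun h => hg (by simpa using inv_mem h)) c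
    refine Prod.ext (B.ι_inj ?_) (B.ι_inj ?_)
    · rw [h1, key B.a B.ha _ _ _ ha2 (hinv _) (B.conj_ι_of_not_mem hg _)]
      congr 1; simp [app, tV, conjT]
    · rw [h2, key B.b B.hb _ _ _ hb2 (hinv _) (B.conj_ι_of_not_mem hg _)]
      congr 1; simp [app, tV, conjT]

end Coord

end CfsgLib.NoNormalEight
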