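import Cfsg.Agent.NoNormalEight.Frame

/-!
Involutions outside the centralizer of `E` produce normal elementary abelian subgroups of order 8.
-/

set_option autoImplicit false
set_option linter.style.haveILetI false
set_option linter.unusedSectionVars false
set_option linter.unusedVariables false

namespace CfsgLib.NoNormalEight

open Subgroup
open scoped commutatorElement

universe u

variable {P : Type u} [Group P] [Finite P]

namespace Coord

variable {C : Ctx P} (B : Coord C)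

include B in
/-- An element of the centralizer of order above 2 has a power of order 4 in `E`. -/
theorem exists_four {k : P} (hk : k ∈ C.K) (h : k ^ 2 ≠ 1) :
    ∃ (j : ℕ) (c : V2), c ≠ 0 ∧ k ^ j ∈ C.E ∧ (k ^ j) ^ 2 = B.ι c := by
  obtain ⟨n, hn⟩ := C.hP k
  induction n generalizing k with
  | zero => exact absurd (by rw [pow_zero, pow_one] at hn; rw [hn, one_pow]) h
  | succ n ih =>
    by_cases h2 : (k ^ 2) ^ 2 = 1
    · have hkE : k ∈ C.E := C.mem_E hk (by rw [show 4 = 2 * 2 from rfl, pow_mul, h2])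
      obtain ⟨c, hc⟩ := B.ι_surj (C.sq_mem_W hkE)
      refine ⟨1, c, fun e => h ?_, by rwa [pow_one], by rw [pow_one, hc]⟩
      rw [← hc, e, B.ι_zero]
    · obtain ⟨j, c, hc, hE, he⟩ := ih (pow_mem hk 2) h2 (by rw [← pow_mul, ← pow_succ', hn])
      exact ⟨2 * j, c, hc, by rw [pow_mul]; exact hE, by rw [pow_mul k 2 j]; exact he⟩

/-- Adjusting by an element of `E`. -/
theorem exists_invol {x : P} (hx : x ∈ C.L) (h4 : x ^ 4 = 1) (hg : Good (B.psi x)) :
    ∃ y : P, y ∈ C.L ∧ y ^ 2 = 1 ∧ B.psi y = B.psi x := by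
  have hx2 : x ^ 2 ∈ C.E := C.mem_E (B.sq_mem_K hx) (by
    rw [← pow_mul, show 2 * 4 = 4 * 2 from rfl, pow_mul, h4, one_pow])
  obtain ⟨w, hw⟩ := B.ι_surj (w := x ^ 2) ⟨hx2, by rw [← pow_mul]; exact h4⟩
  obtain ⟨c, hc⟩ := exists_shift _ hg w
  set e := B.a ^ c.1.val * B.b ^ c.2.val with he
  have heE : e ∈ C.E := mul_mem (pow_mem B.ha _) (pow_mem B.hb _)
  have he2 : e ^ 2 = B.ι c := B.ι_sq c
  have hcom : ⁅x⁻¹, e⁆ = B.ι (app (B.psi x) c) := by
    rw [B.comm_eq (inv_mem hx) heE he2, B.psi_inv hx]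
  refine ⟨x * e, mul_mem hx (C.K_le_L (C.E_le_K heE)), ?_, ?_⟩
  · have : (x * e) ^ 2 = x ^ 2 * ⁅x⁻¹, e⁆ * e ^ 2 := by
      rw [commutatorElement_def, pow_two, pow_two, pow_two]; group
    rw [this, hcom, he2, ← hw, ← B.ι_add, ← B.ι_add, hc, B.ι_zero]
  · rw [B.psi_mul hx (C.K_le_L (C.E_le_K heE)), B.psi_eq_zero_of_K (C.E_le_K heE), add_zero]

include B in
/-- An involution inducing an invariant good endomorphism contradicts the hypothesis. -/
theorem contra {x : P} (hx : x ∈ C.L) (h4 : x ^ 4 = 1) (hg : Good (B.psi x))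
    (hinv : ∀ g : P, B.psi (g * x * g⁻¹) = B.psi x) : False := by
  obtain ⟨y, hy, hy2, hpsi⟩ := B.exists_invol hx h4 hg
  have hyy : y⁻¹ = y := inv_eq_of_mul_eq_one_right (by rw [← pow_two, hy2])
  have hyW : ∀ w ∈ C.W, Commute y w := fun w hw => (mem_centralizer_iff.1 hy w hw).symm
  have hinvy : ∀ g : P, B.psi (g * y * g⁻¹) = B.psi y := by
    intro g
    rw [hpsi]
    by_cases hgL : g ∈ C.L
    · rw [(B.psi_conj hy).1 hgL, hpsi]
    · rw [(B.psi_conj hy).2 hgL, hpsi, ← (B.psi_conj hx).2 hgL, hinv g]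
  -- every conjugate of `y` lies in `W y`
  have hconj : ∀ g : P, g * y * g⁻¹ * y ∈ C.W := by
    intro g
    have hgy : g * y * g⁻¹ ∈ C.L := C.L_normal.conj_mem y hy g
    set k := g * y * g⁻¹ * y with hk
    have hkK : k ∈ C.K := B.mem_K_of_psi (mul_mem hgy hy) (by
      rw [B.psi_mul hgy hy, hinvy g, add_self])
    have hyk : y * k * y⁻¹ = k⁻¹ := by
      have e : k⁻¹ = y⁻¹ * (g * y⁻¹ * g⁻¹) := by rw [hk]; group
      rw [e, hyy, hk]
      simp only [mul_assoc]
      rw [← pow_two, hy2, mul_one]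
    by_cases h2 : k ^ 2 = 1
    · exact ⟨C.mem_E hkK (four_of_sq h2), h2⟩
    exfalso
    obtain ⟨j, c, hc0, hkE, hkc⟩ := B.exists_four hkK h2
    have h1 : ⁅y, k ^ j⁆ = B.ι c := by
      rw [commutatorElement_def, ← conj_pow, hyk, inv_pow, ← hkc, ← mul_inv_rev, ← pow_two, hkc, B.ι_inv]
    rw [B.comm_eq hy hkE hkc] at h1
    exact hc0 (hg.2 c (by rw [← hpsi]; exact B.ι_inj h1))
  let N : Subgroup P :=
    { carrier := {n | n ∈ C.W ∨ n * y ∈ C.W}
      one_mem' := Or.inl (one_mem _)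
      mul_mem' := fun {n m} hn hm => by
        have hyy2 : y * y = 1 := by rw [← pow_two]; exact hy2
        rcases hn with hn | hn <;> rcases hm with hm | hm
        · exact Or.inl (mul_mem hn hm)
        · exact Or.inr (by rw [mul_assoc]; exact mul_mem hn hm)
        · refine Or.inr ?_
          rw [show n * m * y = n * y * (y⁻¹ * m * y) by group, hyy, (hyW m hm).eq, mul_assoc m,
            hyy2, mul_one]
          exact mul_mem hn hm
        · refine Or.inl ?_
          have e : n * m = n * y * (y⁻¹ * (m * y) * y) * (y⁻¹ * y⁻¹) := by group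
          rw [e, hyy, (hyW _ hm).eq, mul_assoc (m * y), hyy2, mul_one, mul_one]
          exact mul_mem hn hm
      inv_mem' := fun {n} hn => by
        rcases hn with hn | hn
        · exact Or.inl (inv_mem hn)
        · refine Or.inr ?_
          have e : n⁻¹ * y = y * (n * y)⁻¹ * y := by group
          have hyy2 : y * y = 1 := by rw [← pow_two]; exact hy2
          rw [e, (hyW _ (inv_mem hn)).eq, mul_assoc, hyy2, mul_one]
          exact inv_mem hn }
  have hNn : N.Normal := by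
    refine ⟨fun n hn g => ?_⟩
    rcases hn with hn | hn
    · exact Or.inl (C.W_normal.conj_mem n hn g)
    · refine Or.inr ?_
      have e : g * n * g⁻¹ * y = g * (n * y) * g⁻¹ * (g * y⁻¹ * g⁻¹ * y) := by group
      rw [e, hyy]
      exact mul_mem (C.W_normal.conj_mem _ hn g) (hconj g)
  have hsq : ∀ n ∈ N, n ^ 2 = 1 := by
    intro n hn
    rcases hn with hn | hn
    · exact hn.2
    · have e : n = n * y * y⁻¹ := by group
      rw [e, hyy, (hyW _ hn).symm.mul_pow, hn.2, hy2, one_mul]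
  have hNc : IsMulCommutative N := by
    refine ⟨⟨fun a b => Subtype.ext ?_⟩⟩
    have inv_self : ∀ z : P, z ∈ N → z⁻¹ = z := fun z hz =>
      inv_eq_of_mul_eq_one_right (by rw [← pow_two, hsq z hz])
    calc (a : P) * b = ((a : P) * b)⁻¹ := (inv_self _ (mul_mem a.2 b.2)).symm
      _ = b * a := by rw [mul_inv_rev, inv_self _ a.2, inv_self _ b.2]
  have hlt : C.W < N := by
    refine lt_of_le_of_ne (fun w hw => Or.inl hw) fun e => ?_
    have : y ∈ C.W := e ▸ (Or.inr (by rw [← pow_two, hy2]; exact one_mem _) : y ∈ N)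
    exact hg.1 (hpsi ▸ B.psi_eq_zero_of_K (C.E_le_K this.1))
  have h4W : 4 ≤ Nat.card C.W := by
    have h := Nat.card_le_card_of_injective (fun c : V2 => (⟨B.ι c, B.ι_mem c⟩ : C.W))
      fun c d h => B.ι_inj (congrArg Subtype.val h)
    rwa [Nat.card_eq_fintype_card, show Fintype.card V2 = 4 from rfl] at h
  have h5 := CfsgLib.Solvable.card_lt_of_lt hlt
  have := C.hA N hNn hNc hsq
  omega

include B in
/-- Fixed-point-free endomorphisms have lifts of order at most 4. -/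
theorem four_of_injective {x : P} (hx : x ∈ C.L) (hm : ∀ c, app (B.psi x) c = 0 → c = 0) :
    x ^ 4 = 1 := by
  by_contra h
  obtain ⟨j, c, hc, hE, he⟩ := B.exists_four (B.sq_mem_K hx) (by rwa [← pow_mul])
  refine hc (hm c (B.ι_inj ?_))
  rw [← B.comm_eq hx hE he, B.ι_zero, commutatorElement_eq_one_iff_mul_comm, ← pow_mul]
  exact (Commute.refl x).pow_right _

include B in
/-- The fixed-point-free endomorphism and the nilpotent one do not both occur. -/
theorem not_both {x y : P} (hx : x ∈ C.L) (hy : y ∈ C.L) (hxT : B.psi x = nilT)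
    (hyo : B.psi y = omg) : False := by
  obtain ⟨y₁, hy₁, hy2, hy₁o⟩ := B.exists_invol hy (B.four_of_injective hy (by
    rw [hyo]; exact om_omg.2)) (by rw [hyo]; exact om_omg.1)
  rw [hyo] at hy₁o
  have hyy : y₁⁻¹ = y₁ := inv_eq_of_mul_eq_one_right (by rw [← pow_two, hy2])
  have hyyl : ∀ z : P, y₁ * (y₁ * z) = z := fun z => by
    rw [← mul_assoc, ← pow_two, hy2, one_mul]
  -- elements of order 8 of the centralizer
  have h8 : ∀ k ∈ C.K, k ^ 8 = 1 → k ^ 4 = 1 := by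
    intro k hk hk8
    have hk2 : k ^ 2 ∈ C.E := C.mem_E (pow_mem hk 2) (by rw [← pow_mul]; exact hk8)
    obtain ⟨c, hc⟩ := B.ι_surj (C.sq_mem_W hk2)
    set a := k⁻¹ * (y₁ * k * y₁⁻¹) with ha
    have haK : a ∈ C.K := mul_mem (inv_mem hk) (C.K_normal.conj_mem k hk y₁)
    have hcom := B.comm_eq hy₁ hk2 hc.symm
    rw [hy₁o] at hcom
    have hka : (k * a) ^ 2 = B.ι (app omg c) * k ^ 2 := by
      rw [← hcom, ha, mul_inv_cancel_left, commutatorElement_def, conj_pow]
      group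
    have hw : ⁅k⁻¹, a⁆ ∈ C.W := by
      have hQ : ∀ q ∈ C.K.subgroupOf (⊤ : Subgroup P), (q : P) ∈ C.K := fun q hq => hq
      haveI : Group.IsNilpotent (C.K.subgroupOf (⊤ : Subgroup P)) :=
        ((C.hP.to_subgroup _).to_subgroup _).isNilpotent
      have h1 := comm_sq (C.omega hQ) (x := ⟨⟨k⁻¹, mem_top _⟩, inv_mem hk⟩)
        (by ext; simp [hk8]) ⟨⟨a, mem_top _⟩, haK⟩
      have h2 : ⁅k⁻¹, a⁆ ^ 2 = 1 := by
        have := congrArg (fun q : C.K.subgroupOf (⊤ : Subgroup P) => ((q : (⊤ : Subgroup P)) : P)) h1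
        simpa [commutatorElement_def] using this
      have hkK : ⁅k⁻¹, a⁆ ∈ C.K := by
        rw [commutatorElement_def]
        exact mul_mem (mul_mem (mul_mem (inv_mem hk) haK) (inv_mem (inv_mem hk))) (inv_mem haK)
      exact ⟨C.mem_E hkK (four_of_sq h2), h2⟩
    have e1 : (k * a) ^ 2 = k ^ 2 * (⁅k⁻¹, a⁆ * a ^ 2) := by
      rw [commutatorElement_def, pow_two, pow_two, pow_two]; group
    rw [hka, (C.comm _ (B.ι_mem _).1 _ hk2).eq] at e1
    have e2 := mul_left_cancel e1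
    have ha2W : a ^ 2 ∈ C.W := by
      rw [show a ^ 2 = ⁅k⁻¹, a⁆⁻¹ * B.ι (app omg c) by rw [e2]; group]
      exact mul_mem (inv_mem hw) (B.ι_mem _)
    have haE : a ∈ C.E := C.mem_E haK (by rw [show 4 = 2 * 2 from rfl, pow_mul, ha2W.2])
    rw [show ⁅k⁻¹, a⁆ = 1 from commutatorElement_eq_one_iff_mul_comm.2
      (C.commute_K haE (inv_mem hk)).symm.eq, one_mul] at e2
    have hya := B.comm_eq hy₁ haE e2.symm
    rw [hy₁o] at hya
    have e3 : a * (y₁ * a * y₁⁻¹) = 1 := by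
      rw [ha]
      simp only [hyy]
      have hyy2 : y₁ * y₁ = 1 := by rw [← pow_two]; exact hy2
      calc k⁻¹ * (y₁ * k * y₁) * (y₁ * (k⁻¹ * (y₁ * k * y₁)) * y₁)
          = k⁻¹ * (y₁ * k * (y₁ * y₁) * k⁻¹ * y₁ * k * (y₁ * y₁)) := by group
        _ = 1 := by simp [hyy2, mul_assoc, hyyl]
    rw [show y₁ * a * y₁⁻¹ = ⁅y₁, a⁆ * a by simp [commutatorElement_def], hya,
      (C.comm _ (B.ι_mem (app omg (app omg c))).1 _ haE).eq, ← mul_assoc, ← pow_two, ← e2, ← B.ι_add,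
      ← B.ι_zero] at e3
    have hc0 := omg_shift c (B.ι_inj e3)
    rw [show k ^ 4 = (k ^ 2) ^ 2 by rw [← pow_mul], ← hc, hc0, B.ι_zero]
  have hKE : ∀ k ∈ C.K, k ∈ C.E := by
    suffices H : ∀ n, ∀ k ∈ C.K, k ^ 2 ^ n = 1 → k ^ 4 = 1 from fun k hk => by
      obtain ⟨n, hn⟩ := C.hP k
      exact C.mem_E hk (H n k hk hn)
    intro n
    induction n with
    | zero => intro k _ hk; rw [pow_zero, pow_one] at hk; rw [hk, one_pow]
    | succ n ih =>
      intro k hk hkn
      have := ih (k ^ 2) (pow_mem hk 2) (by rw [← pow_mul, ← pow_succ', hkn])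
      exact h8 k hk (by rw [← pow_mul] at this; exact this)
  have hyy2 : y₁ * y₁ = 1 := by rw [← pow_two]; exact hy2
  set c' := x⁻¹ * (y₁ * x * y₁⁻¹) with hc'
  have hc'K : c' ∈ C.K := B.mem_K_of_psi (mul_mem (inv_mem hx) (C.L_normal.conj_mem x hx y₁)) (by
    rw [B.psi_mul (inv_mem hx) (C.L_normal.conj_mem x hx y₁), B.psi_inv hx, (B.psi_conj hx).1 hy₁,
      add_self])
  have hc'E := hKE c' hc'K
  obtain ⟨d, hd⟩ := B.ι_surj (C.sq_mem_W hc'E)
  have hyc := B.comm_eq hy₁ hc'E hd.symm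
  rw [hy₁o] at hyc
  have e4 : c' * (y₁ * c' * y₁⁻¹) = 1 := by
    rw [hc']
    simp only [hyy]
    calc x⁻¹ * (y₁ * x * y₁) * (y₁ * (x⁻¹ * (y₁ * x * y₁)) * y₁)
        = x⁻¹ * (y₁ * x * (y₁ * y₁) * x⁻¹ * y₁ * x * (y₁ * y₁)) := by group
      _ = 1 := by simp [hyy2, mul_assoc, hyyl]
  rw [show y₁ * c' * y₁⁻¹ = ⁅y₁, c'⁆ * c' by simp [commutatorElement_def], hyc,
    (C.comm _ (B.ι_mem (app omg d)).1 _ hc'E).eq, ← mul_assoc, ← pow_two, ← hd, ← B.ι_add,
    ← B.ι_zero] at e4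
  have hd0 := omg_plus d (B.ι_inj e4)
  rw [hd0, B.ι_zero] at hd
  have hzE : x ^ 2 ∈ C.E := hKE _ (B.sq_mem_K hx)
  obtain ⟨c, hc⟩ := B.ι_surj (C.sq_mem_W hzE)
  have e5 : app nilT c = 0 := by
    rw [← hxT]
    refine B.ι_inj ?_
    rw [← B.comm_eq hx hzE hc.symm, B.ι_zero, commutatorElement_eq_one_iff_mul_comm]
    exact (Commute.refl x).pow_right _
  have e6 : (x * y₁) ^ 2 = x ^ 2 * c' := by
    rw [hc', hyy, pow_two, pow_two]; group
  have e7 : app (nilT + omg) c = 0 := by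
    refine B.ι_inj ?_
    rw [← hxT, ← hy₁o, ← B.psi_mul hx hy₁, B.ι_zero,
      ← B.comm_eq (mul_mem hx hy₁) (mul_mem hzE hc'E) (c := c) (by
        rw [(C.comm _ hzE _ hc'E).mul_pow, ← hd, mul_one, ← hc]),
      commutatorElement_eq_one_iff_mul_comm, ← e6]
    exact (Commute.refl (x * y₁)).pow_right _
  have hx4 : x ^ 4 = 1 := by
    rw [show x ^ 4 = (x ^ 2) ^ 2 by rw [← pow_mul], ← hc, omg_kill c e5 e7, B.ι_zero]
  refine B.contra hx hx4 (hxT ▸ good_nilT) fun g => ?_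
  by_cases hg : g ∈ C.L
  · rw [(B.psi_conj hx).1 hg]
  · rw [(B.psi_conj hx).2 hg, hxT, conjT_nilT]

end Coord

end CfsgLib.NoNormalEight
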