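import Cfsg.Agent.Solvable.PGroupBasic
import Mathlib.GroupTheory.Nilpotent

/-!
2-groups in which every element of order dividing 4 is central: Frattini index at most the number
of solutions of `x ^ 2 = 1`, involutions of the Frattini subgroup are squares, and a descent for
squares of elements acting trivially modulo the Frattini subgroup.
-/

set_option autoImplicit false
set_option linter.style.haveILetI false
set_option linter.unusedSectionVars false

namespace CfsgLib.NoNormalEight

open Subgroup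
open scoped commutatorElement

universe u

variable {Q : Type u} [Group Q]

/-- Every element of order dividing 4 is central. -/
def OmegaCentral (Q : Type u) [Group Q] : Prop := ∀ x : Q, x ^ 4 = 1 → ∀ g : Q, Commute x g

/-- The subgroup of solutions of `x ^ 2 = 1`. -/
def omOne (h : OmegaCentral Q) : Subgroup Q where
  carrier := {x | x ^ 2 = 1}
  one_mem' := one_pow 2
  mul_mem' := fun {a b} (ha : a ^ 2 = 1) (hb : b ^ 2 = 1) => by
    show (a * b) ^ 2 = 1
    have ha4 : a ^ 4 = 1 := by rw [show 4 = 2 * 2 from rfl, pow_mul, ha, one_pow]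
    rw [(h a ha4 b).mul_pow, ha, hb, one_mul]
  inv_mem' := fun {a} (ha : a ^ 2 = 1) => by
    show a⁻¹ ^ 2 = 1
    rw [inv_pow, ha, inv_one]

/-- The subgroup of solutions of `x ^ 4 = 1`. -/
def omFour (h : OmegaCentral Q) : Subgroup Q where
  carrier := {x | x ^ 4 = 1}
  one_mem' := one_pow 4
  mul_mem' := fun {a b} (ha : a ^ 4 = 1) (hb : b ^ 4 = 1) => by
    show (a * b) ^ 4 = 1
    rw [(h a ha b).mul_pow, ha, hb, one_mul]
  inv_mem' := fun {a} (ha : a ^ 4 = 1) => by
    show a⁻¹ ^ 4 = 1
    rw [inv_pow, ha, inv_one]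

theorem mem_omOne {h : OmegaCentral Q} {x : Q} : x ∈ omOne h ↔ x ^ 2 = 1 := Iff.rfl

theorem mem_omFour {h : OmegaCentral Q} {x : Q} : x ∈ omFour h ↔ x ^ 4 = 1 := Iff.rfl

theorem four_of_sq {x : Q} (hx : x ^ 2 = 1) : x ^ 4 = 1 := by
  rw [show 4 = 2 * 2 from rfl, pow_mul, hx, one_pow]

instance omOne_normal (h : OmegaCentral Q) : (omOne h).Normal where
  conj_mem x hx g := by
    have e : g * x * g⁻¹ = x := by rw [← (h x (four_of_sq hx) g).eq]; group
    rwa [e]

/-- Squaring on the solutions of `x ^ 4 = 1`. -/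
def sqHom (h : OmegaCentral Q) : omFour h →* Q where
  toFun x := (x : Q) ^ 2
  map_one' := by simp
  map_mul' x y := by
    show ((x : Q) * y) ^ 2 = _
    rw [(h x x.2 y).mul_pow]

theorem sqHom_range_le (h : OmegaCentral Q) : (sqHom h).range ≤ omOne h := by
  rintro _ ⟨x, rfl⟩
  show ((x : Q) ^ 2) ^ 2 = 1
  rw [← pow_mul]; exact x.2

/-- An element of order dividing 8 is central modulo the solutions of `x ^ 2 = 1`. -/
theorem comm_sq [Group.IsNilpotent Q] (h : OmegaCentral Q) {x : Q} (hx : x ^ 8 = 1) (g : Q) :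
    ⁅x, g⁆ ^ 2 = 1 := by
  suffices H : ∀ n, ∀ g ∈ Subgroup.upperCentralSeries Q n, ∀ x : Q, x ^ 8 = 1 → ⁅x, g⁆ ^ 2 = 1 by
    obtain ⟨n, hn⟩ := Group.IsNilpotent.nilpotent Q
    exact H n g (hn.symm ▸ mem_top g) x hx
  intro n
  induction n with
  | zero =>
    intro g hg x _
    rw [Subgroup.upperCentralSeries_zero, mem_bot] at hg
    subst hg
    rw [commutatorElement_one_right, one_pow]
  | succ n ih =>
    intro g hg x hx
    set c := ⁅x, g⁆ with hc
    have hcn : c ∈ Subgroup.upperCentralSeries Q n := by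
      have := Subgroup.mem_upperCentralSeries_succ_iff.1 hg x
      have e : c = (g * x * g⁻¹ * x⁻¹)⁻¹ := by rw [hc, commutatorElement_def]; group
      rw [e]
      exact inv_mem this
    have hx2 : (x ^ 2) ^ 4 = 1 := by rw [← pow_mul]; exact hx
    have hconj : g * x⁻¹ * g⁻¹ = x⁻¹ * c := by rw [hc, commutatorElement_def]; group
    have h1 : (x⁻¹ * c) ^ 2 = (x ^ 2)⁻¹ := by
      rw [← hconj, conj_pow, inv_pow, ((h _ hx2 g).inv_left.symm).eq]
      group
    have h2 : x * c * x⁻¹ = c⁻¹ := by
      have e1 : c * x⁻¹ * c = x⁻¹ := by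
        have : x * (x⁻¹ * c) ^ 2 = x * (x ^ 2)⁻¹ := by rw [h1]
        rw [pow_two, pow_two, mul_inv_rev] at this
        simpa [mul_assoc] using this
      calc x * c * x⁻¹ = (x * (c * x⁻¹ * c)) * c⁻¹ := by group
        _ = c⁻¹ := by rw [e1]; group
    have h3 := ih c hcn x hx
    have h4 : ⁅x, c⁆ = (c ^ 2)⁻¹ := by rw [commutatorElement_def, h2, pow_two, mul_inv_rev]
    rw [h4, inv_pow, inv_eq_one, ← pow_mul] at h3
    have h5 : x * c * x⁻¹ = c := by rw [← (h c h3 x).eq]; group
    rw [h2] at h5
    rw [pow_two]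
    calc c * c = c * c⁻¹ := by rw [h5]
      _ = 1 := mul_inv_cancel c

/-- The quotient by the solutions of `x ^ 2 = 1` inherits the property. -/
theorem quot [Group.IsNilpotent Q] (h : OmegaCentral Q) : OmegaCentral (Q ⧸ omOne h) := by
  intro x hx g
  obtain ⟨x, rfl⟩ := QuotientGroup.mk'_surjective _ x
  obtain ⟨g, rfl⟩ := QuotientGroup.mk'_surjective _ g
  have hx4 : (x ^ 4) ^ 2 = 1 := by
    rw [← map_pow] at hx
    exact (QuotientGroup.eq_one_iff _).1 hx
  rw [← pow_mul] at hx4
  show QuotientGroup.mk' (omOne h) x * QuotientGroup.mk' (omOne h) g = _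
  rw [← commutatorElement_eq_one_iff_mul_comm, ← map_commutatorElement, QuotientGroup.mk'_apply,
    QuotientGroup.eq_one_iff]
  exact comm_sq h hx4 g

theorem card_omOne_quot [Group.IsNilpotent Q] (h : OmegaCentral Q) :
    Nat.card (omOne (quot h)) = Nat.card (sqHom h).range := by
  set f := (QuotientGroup.mk' (omOne h)).comp (omFour h).subtype
  have hr : omOne (quot h) = f.range := by
    ext y
    constructor
    · intro hy
      obtain ⟨x, rfl⟩ := QuotientGroup.mk'_surjective _ y
      have : (x ^ 2) ^ 2 = 1 := by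
        rw [mem_omOne, ← map_pow] at hy
        exact (QuotientGroup.eq_one_iff _).1 hy
      rw [← pow_mul] at this
      exact ⟨⟨x, this⟩, rfl⟩
    · rintro ⟨x, rfl⟩
      rw [mem_omOne, ← map_pow]
      refine (QuotientGroup.eq_one_iff _).2 ?_
      show ((x : Q) ^ 2) ^ 2 = 1
      rw [← pow_mul]; exact x.2
  have hk : f.ker = (sqHom h).ker := by
    ext x
    rw [MonoidHom.mem_ker, MonoidHom.mem_ker]
    exact (QuotientGroup.eq_one_iff _).trans Iff.rfl
  rw [hr]
  exact Nat.card_congr ((QuotientGroup.quotientKerEquivRange f).symm.trans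
    ((QuotientGroup.quotientMulEquivOfEq hk).trans (QuotientGroup.quotientKerEquivRange _))).toEquiv

/-- The Frattini subgroup of a subgroup maps into the Frattini subgroup. -/
theorem frattini_map_le [Finite Q] (hQ : IsPGroup 2 Q) (M : Subgroup Q) :
    (frattini M).map M.subtype ≤ frattini Q := by
  obtain ⟨hc, hp⟩ := CfsgLib.PGroupBasic.commutator_pow_le_frattini hQ
  haveI : (frattini Q).Normal := inferInstance
  rw [map_le_iff_le_comap]
  refine CfsgLib.PGroupBasic.frattini_le_of_elementary (p := 2) _ ?_ fun x => hp x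
  rw [_root_.commutator_def, commutator_le]
  intro a _ b _
  exact hc (commutator_mem_commutator (mem_top (a : Q)) (mem_top (b : Q)))

/-- The Frattini subgroup of a quotient lies in the image of the Frattini subgroup. -/
theorem frattini_quot_le [Finite Q] (hQ : IsPGroup 2 Q) (N : Subgroup Q) [N.Normal] :
    frattini (Q ⧸ N) ≤ (frattini Q).map (QuotientGroup.mk' N) := by
  obtain ⟨hc, hp⟩ := CfsgLib.PGroupBasic.commutator_pow_le_frattini hQ
  haveI : ((frattini Q).map (QuotientGroup.mk' N)).Normal :=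
    Normal.map inferInstance _ (QuotientGroup.mk'_surjective N)
  refine CfsgLib.PGroupBasic.frattini_le_of_elementary (p := 2) _ ?_ fun x => ?_
  · rw [_root_.commutator_def, ← map_top_of_surjective _ (QuotientGroup.mk'_surjective N),
      ← map_commutator]
    exact map_mono (by rwa [← _root_.commutator_def])
  · obtain ⟨x, rfl⟩ := QuotientGroup.mk'_surjective _ x
    rw [← map_pow]
    exact mem_map_of_mem _ (hp x)

/-- The Frattini index is at most the number of solutions of `x ^ 2 = 1`. -/
theorem index_frattini_le [Finite Q] (hQ : IsPGroup 2 Q) (h : OmegaCentral Q) :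
    (frattini Q).index ≤ Nat.card (omOne h) := by
  suffices H : ∀ (n : ℕ) (Q : Type u) [Group Q] [Finite Q], Nat.card Q ≤ n → IsPGroup 2 Q →
      ∀ h : OmegaCentral Q, (frattini Q).index ≤ Nat.card (omOne h) from H _ Q le_rfl hQ h
  intro n
  induction n with
  | zero => intro Q _ _ h _; exact absurd h (Nat.not_le.2 Nat.card_pos)
  | succ n ih =>
    intro Q _ _ hn hQ h
    haveI := hQ.isNilpotent
    rcases subsingleton_or_nontrivial Q with hs | hs
    · rw [show frattini Q = ⊤ from Subsingleton.elim _ _, index_top]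
      exact Nat.card_pos
    by_cases hW : omOne h ≤ frattini Q
    · have hne : omOne h ≠ ⊥ := by
        obtain ⟨x, hx⟩ := exists_prime_orderOf_dvd_card' (G := Q) 2 (by
          obtain ⟨k, hk⟩ := IsPGroup.iff_card.1 hQ
          have := Finite.one_lt_card (α := Q)
          rw [hk]
          exact dvd_pow_self 2 fun e => by rw [hk, e] at this; norm_num at this)
        intro e
        have : x ∈ omOne h := by rw [mem_omOne, ← hx, pow_orderOf_eq_one]
        rw [e, mem_bot] at this
        rw [this, orderOf_one] at hx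
        norm_num at hx
      have hlt : Nat.card (Q ⧸ omOne h) < Nat.card Q := by
        rw [← (omOne h).card_mul_index, ← index_eq_card]
        have h1 : 2 ≤ Nat.card (omOne h) := by
          haveI := (nontrivial_iff_ne_bot _).2 hne
          exact Finite.one_lt_card
        have := Nat.pos_of_ne_zero ((omOne h).index_ne_zero_of_finite)
        nlinarith
      have hQ' := hQ.to_quotient (omOne h)
      calc (frattini Q).index = ((frattini Q).map (QuotientGroup.mk' (omOne h))).index := by
            rw [index_map_eq _ (QuotientGroup.mk'_surjective _) (by rwa [QuotientGroup.ker_mk'])]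
        _ ≤ (frattini (Q ⧸ omOne h)).index :=
            Nat.le_of_dvd (Nat.pos_of_ne_zero index_ne_zero_of_finite)
              (index_dvd_of_le (frattini_quot_le hQ _))
        _ ≤ Nat.card (omOne (quot h)) := ih _ (by omega) hQ' _
        _ = Nat.card (sqHom h).range := card_omOne_quot h
        _ ≤ Nat.card (omOne h) := card_le_of_le (sqHom_range_le h)
    · obtain ⟨w, hw, hwF⟩ := SetLike.not_le_iff_exists.1 hW
      obtain ⟨M, hM, hwM⟩ : ∃ M : Subgroup Q, IsCoatom M ∧ w ∉ M := by
        by_contra hh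
        push Not at hh
        apply hwF
        rw [frattini, Order.radical]
        simp only [mem_iInf]
        exact hh
      obtain ⟨-, hi⟩ := CfsgLib.PGroupBasic.coatom_normal_index hQ hM
      have hMc : OmegaCentral M := fun x hx g =>
        Subtype.ext (h x (by simpa using congrArg Subtype.val hx) g).eq
      have hlt : Nat.card M < Nat.card Q := by
        rw [← M.card_mul_index, hi]
        have := Nat.card_pos (α := M)
        omega
      have h1 : (omOne hMc).map M.subtype < omOne h := by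
        refine lt_of_le_of_ne ?_ fun e => hwM ?_
        · rintro _ ⟨x, hx, rfl⟩
          exact mem_omOne.2 (by simpa using congrArg Subtype.val hx)
        · rw [← e] at hw
          obtain ⟨x, -, rfl⟩ := hw
          exact x.2
      have h2 : 2 * Nat.card (omOne hMc) ≤ Nat.card (omOne h) := by
        obtain ⟨a, ha⟩ := IsPGroup.iff_card.1 (hQ.to_subgroup ((omOne hMc).map M.subtype))
        obtain ⟨b, hb⟩ := IsPGroup.iff_card.1 (hQ.to_subgroup (omOne h))
        have hab := CfsgLib.Solvable.card_lt_of_lt h1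
        rw [ha, hb, Nat.pow_lt_pow_iff_right (by norm_num)] at hab
        rw [← card_subtype M (omOne hMc), ha, hb, ← pow_succ']
        exact Nat.pow_le_pow_right two_pos hab
      calc (frattini Q).index ≤ ((frattini M).map M.subtype).index :=
            Nat.le_of_dvd (Nat.pos_of_ne_zero index_ne_zero_of_finite)
              (index_dvd_of_le (frattini_map_le hQ M))
        _ = (frattini M).index * 2 := by rw [index_map_subtype, hi]
        _ ≤ Nat.card (omOne hMc) * 2 :=
            Nat.mul_le_mul_right 2 (ih M (by omega) (hQ.to_subgroup M) hMc)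
        _ ≤ Nat.card (omOne h) := by omega

/-- With at most four solutions of `x ^ 2 = 1`, involutions of the Frattini subgroup are squares. -/
theorem exists_sq [Finite Q] (hQ : IsPGroup 2 Q) (h : OmegaCentral Q) (h4 : Nat.card (omOne h) ≤ 4)
    {z : Q} (hz : z ^ 2 = 1) (hzF : z ∈ frattini Q) : ∃ u : Q, u ^ 2 = z := by
  haveI := hQ.isNilpotent
  by_cases hzS : z ∈ (sqHom h).range
  · obtain ⟨x, hx⟩ := hzS
    exact ⟨x, hx⟩
  have hlt : (sqHom h).range < omOne h :=
    lt_of_le_of_ne (sqHom_range_le h) fun e => hzS (e ▸ mem_omOne.2 hz)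
  have h2 : Nat.card (sqHom h).range ≤ 2 := by
    obtain ⟨a, ha⟩ := IsPGroup.iff_card.1 (hQ.to_subgroup (sqHom h).range)
    obtain ⟨b, hb⟩ := IsPGroup.iff_card.1 (hQ.to_subgroup (omOne h))
    have hab := CfsgLib.Solvable.card_lt_of_lt hlt
    rw [ha, hb, Nat.pow_lt_pow_iff_right (by norm_num)] at hab
    have hb2 : b ≤ 2 := (Nat.pow_le_pow_iff_right (by norm_num : 1 < 2)).1 (by rw [← hb]; simpa using h4)
    rw [ha]
    calc 2 ^ a ≤ 2 ^ 1 := Nat.pow_le_pow_right two_pos (by omega)
      _ = 2 := pow_one 2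
  have hq := index_frattini_le (hQ.to_quotient _) (quot h)
  rw [card_omOne_quot h] at hq
  have hcyc : IsCyclic (Q ⧸ omOne h) := by
    haveI : IsCyclic ((Q ⧸ omOne h) ⧸ frattini (Q ⧸ omOne h)) := by
      have hle : Nat.card ((Q ⧸ omOne h) ⧸ frattini (Q ⧸ omOne h)) ≤ 2 := by
        rw [← index_eq_card]; omega
      rcases Nat.lt_or_ge (Nat.card ((Q ⧸ omOne h) ⧸ frattini (Q ⧸ omOne h))) 2 with h1 | h1
      · haveI : Subsingleton ((Q ⧸ omOne h) ⧸ frattini (Q ⧸ omOne h)) :=
          Finite.card_le_one_iff_subsingleton.1 (by omega)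
        exact isCyclic_of_subsingleton
      · exact isCyclic_of_prime_card (p := 2) (le_antisymm hle h1)
    obtain ⟨g, hg⟩ := IsCyclic.exists_generator (α := (Q ⧸ omOne h) ⧸ frattini (Q ⧸ omOne h))
    obtain ⟨g, rfl⟩ := QuotientGroup.mk'_surjective _ g
    refine ⟨g, fun x => ?_⟩
    have htop : zpowers g = ⊤ := frattini_nongenerating (eq_top_iff.2 fun y _ => by
      obtain ⟨i, hi⟩ := mem_zpowers_iff.1 (hg (QuotientGroup.mk' _ y))
      have h1 : (g ^ i)⁻¹ * y ∈ frattini (Q ⧸ omOne h) := QuotientGroup.eq.1 (by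
        rw [← QuotientGroup.mk'_apply, map_zpow]; exact hi)
      have := mul_mem (mem_sup_left (T := frattini (Q ⧸ omOne h)) (zpow_mem (mem_zpowers g) i))
        (mem_sup_right (S := zpowers g) h1)
      rwa [mul_inv_cancel_left] at this)
    exact mem_zpowers_iff.1 (htop ▸ mem_top x)
  have hcz : (QuotientGroup.mk' (omOne h)).ker ≤ center Q := by
    rw [QuotientGroup.ker_mk']
    exact fun x hx => mem_center_iff.2 fun g => (h x (four_of_sq hx) g).symm.eq
  have hcomm : ∀ a b : Q, a * b = b * a :=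
    ((QuotientGroup.mk' (omOne h)).isMulCommutative_of_isCyclic_of_ker_le_center hcz).is_comm.comm
  let sq : Q →* Q :=
    { toFun := fun x => x ^ 2, map_one' := one_pow 2,
      map_mul' := fun a b => (show Commute a b from hcomm a b).mul_pow 2 }
  haveI : sq.range.Normal := ⟨fun x hx g => by rw [hcomm g x, mul_inv_cancel_right]; exact hx⟩
  have hle : frattini Q ≤ sq.range := by
    refine CfsgLib.PGroupBasic.frattini_le_of_elementary (p := 2) _ ?_ fun x => ⟨x, rfl⟩
    rw [_root_.commutator_def, commutator_le]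
    intro a _ b _
    rw [commutatorElement_eq_one_iff_mul_comm.2 (hcomm a b)]
    exact one_mem _
  exact hle hzF

/-- Descent: if an automorphism behaves like conjugation by an element with square `z` in the
Frattini subgroup and is trivial modulo it and on the solutions of `x ^ 2 = 1`, some corrected
square has order at most two. -/
theorem descent [Finite Q] (hQ : IsPGroup 2 Q) (h : OmegaCentral Q) (h4 : Nat.card (omOne h) ≤ 4)
    (σ : MulAut Q) (z : Q) (hσz : σ z = z) (hσσ : ∀ g, σ (σ g) = z⁻¹ * g * z)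
    (hfix : ∀ w : Q, w ^ 2 = 1 → σ w = w) (hmod : ∀ g, g⁻¹ * σ g ∈ frattini Q)
    (hzF : z ∈ frattini Q) : ∃ u : Q, (z * σ u * u) ^ 2 = 1 := by
  suffices H : ∀ (n : ℕ) (Q : Type u) [Group Q] [Finite Q], Nat.card Q ≤ n → IsPGroup 2 Q →
      ∀ h : OmegaCentral Q, Nat.card (omOne h) ≤ 4 → ∀ (σ : MulAut Q) (z : Q), σ z = z →
      (∀ g, σ (σ g) = z⁻¹ * g * z) → (∀ w : Q, w ^ 2 = 1 → σ w = w) →
      (∀ g, g⁻¹ * σ g ∈ frattini Q) → z ∈ frattini Q → ∃ u : Q, (z * σ u * u) ^ 2 = 1 from
    H _ Q le_rfl hQ h h4 σ z hσz hσσ hfix hmod hzF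
  intro n
  induction n with
  | zero => intro Q _ _ h; exact absurd h (Nat.not_le.2 Nat.card_pos)
  | succ n ih =>
    intro Q _ _ hn hQ h h4 σ z hσz hσσ hfix hmod hzF
    by_cases hz2 : z ^ 2 = 1
    · exact ⟨1, by simpa using hz2⟩
    haveI := hQ.isNilpotent
    set W := omOne h with hW
    have hWne : W ≠ ⊥ := by
      intro e
      have hord : ∀ k, ∀ x : Q, x ^ 2 ^ k = 1 → x = 1 := by
        intro k
        induction k with
        | zero => intro x hx; simpa using hx
        | succ k ihk =>
          intro x hx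
          have : x ^ 2 ^ k ∈ W := by rw [hW, mem_omOne, ← pow_mul, ← pow_succ]; exact hx
          rw [e, mem_bot] at this
          exact ihk x this
      obtain ⟨k, hk⟩ := hQ z
      exact hz2 (by rw [hord k z hk, one_pow])
    have hcomap : W.map (σ : Q ≃* Q).toMonoidHom = W := by
      refine le_antisymm ?_ fun x hx => ⟨x, hx, hfix x hx⟩
      rintro _ ⟨x, hx, rfl⟩
      show σ x ∈ W
      rw [hfix x hx]; exact hx
    let σ' : MulAut (Q ⧸ W) := QuotientGroup.congr W W σ hcomap
    have hσ' : ∀ g : Q, σ' (g : Q ⧸ W) = ((σ g : Q) : Q ⧸ W) := fun g => rfl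
    have hlt : Nat.card (Q ⧸ W) < Nat.card Q := by
      rw [← W.card_mul_index, ← index_eq_card]
      have h1 : 2 ≤ Nat.card W := by
        haveI := (nontrivial_iff_ne_bot _).2 hWne
        exact Finite.one_lt_card
      have := Nat.pos_of_ne_zero (W.index_ne_zero_of_finite)
      nlinarith
    have hFmap : ∀ g ∈ frattini Q, ((g : Q) : Q ⧸ W) ∈ frattini (Q ⧸ W) := by
      intro g hg
      obtain ⟨hc, hp⟩ := CfsgLib.PGroupBasic.commutator_pow_le_frattini (hQ.to_quotient W)
      have : frattini Q ≤ (frattini (Q ⧸ W)).comap (QuotientGroup.mk' W) := by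
        refine CfsgLib.PGroupBasic.frattini_le_of_elementary (p := 2) _ ?_ fun x => ?_
        · rw [_root_.commutator_def, commutator_le]
          intro a _ b _
          rw [mem_comap, map_commutatorElement]
          exact hc (commutator_mem_commutator (mem_top _) (mem_top _))
        · rw [mem_comap, map_pow]
          exact hp _
      exact this hg
    obtain ⟨u, hu⟩ := ih (Q ⧸ W) (by omega) (hQ.to_quotient W) (quot h)
      (by rw [card_omOne_quot]; exact (card_le_of_le (sqHom_range_le h)).trans h4)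
      σ' (z : Q ⧸ W) (by rw [hσ', hσz])
      (fun g => by
        obtain ⟨g, rfl⟩ := QuotientGroup.mk_surjective g
        rw [hσ', hσ', hσσ]; rfl)
      (fun w hw => by
        obtain ⟨w, rfl⟩ := QuotientGroup.mk_surjective w
        have hw4 : w ^ 4 = 1 := by
          rw [← QuotientGroup.mk_pow, QuotientGroup.eq_one_iff] at hw
          have : (w ^ 2) ^ 2 = 1 := hw
          rwa [← pow_mul] at this
        rw [hσ', QuotientGroup.eq]
        show ((σ w)⁻¹ * w) ^ 2 = 1
        rw [((h w hw4 _).symm.inv_left).mul_pow, inv_pow, ← map_pow,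
          hfix _ (by rw [← pow_mul]; exact hw4), inv_mul_cancel])
      (fun g => by
        obtain ⟨g, rfl⟩ := QuotientGroup.mk_surjective g
        rw [hσ', ← QuotientGroup.mk_inv, ← QuotientGroup.mk_mul]
        exact hFmap _ (hmod g))
      (hFmap z hzF)
    obtain ⟨u, rfl⟩ := QuotientGroup.mk_surjective u
    rw [hσ', ← QuotientGroup.mk_mul, ← QuotientGroup.mk_mul, ← QuotientGroup.mk_pow,
      QuotientGroup.eq_one_iff] at hu
    have hu4 : ((z * σ u * u) ^ 2) ^ 2 = 1 := hu
    rw [← pow_mul] at hu4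
    set z₁ := z * σ u * u with hz₁
    -- the corrected automorphism
    set τ : MulAut Q := MulAut.conj u⁻¹ * σ with hτdef
    have hτ : ∀ g, τ g = u⁻¹ * σ g * u := fun g => by simp [hτdef]
    have hτz : τ z₁ = z₁ := by
      rw [hτ, hz₁, map_mul, map_mul, hσz, hσσ]; group
    have hτfix : ∀ w : Q, w ^ 2 = 1 → τ w = w := fun w hw => by
      rw [hτ, hfix w hw, ((h w (four_of_sq hw) u).symm.inv_left).eq, inv_mul_cancel_right]
    have hτmod : ∀ g, g⁻¹ * τ g ∈ frattini Q := fun g => by
      have hc := (CfsgLib.PGroupBasic.commutator_pow_le_frattini hQ).1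
        (commutator_mem_commutator (mem_top g⁻¹) (mem_top u⁻¹))
      have e : g⁻¹ * τ g = ⁅g⁻¹, u⁻¹⁆ * (u⁻¹ * (g⁻¹ * σ g) * u) := by
        rw [hτ, commutatorElement_def]; group
      rw [e]
      refine mul_mem hc ?_
      have := (inferInstance : (frattini Q).Normal).conj_mem _ (hmod g) u⁻¹
      rwa [inv_inv] at this
    have hz₁F : z₁ ∈ frattini Q := by
      have e : z₁ = z * ((u * (u⁻¹ * σ u) * u⁻¹) * u ^ 2) := by rw [hz₁]; group
      rw [e]
      refine mul_mem hzF (mul_mem ?_ ((CfsgLib.PGroupBasic.commutator_pow_le_frattini hQ).2 u))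
      exact (inferInstance : (frattini Q).Normal).conj_mem _ (hmod u) u
    -- a square root modulo `W`
    obtain ⟨v, hv⟩ := exists_sq (hQ.to_quotient W) (quot h)
      (by rw [card_omOne_quot]; exact (card_le_of_le (sqHom_range_le h)).trans h4)
      (z := ((z₁⁻¹ : Q) : Q ⧸ W)) (by
        rw [← QuotientGroup.mk_pow, QuotientGroup.eq_one_iff]
        show ((z₁⁻¹) ^ 2) ^ 2 = 1
        rw [← pow_mul, inv_pow, hu4, inv_one])
      (hFmap _ (inv_mem hz₁F))
    obtain ⟨v, rfl⟩ := QuotientGroup.mk_surjective v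
    rw [← QuotientGroup.mk_pow, QuotientGroup.eq] at hv
    set w := (v ^ 2)⁻¹ * z₁⁻¹ with hwdef
    have hv2 : v ^ 2 = z₁⁻¹ * w⁻¹ := by
      rw [hwdef]
      group
    set a := v⁻¹ * τ v with ha
    have hτv2 : τ (v ^ 2) = v ^ 2 := by
      rw [hv2, map_mul, map_inv, map_inv, hτz, hτfix w hv]
    have hv8 : v ^ 8 = 1 := by
      have hc : Commute z₁⁻¹ w⁻¹ := ((h z₁ hu4 w).inv_left).inv_right
      rw [show 8 = 2 * 4 from rfl, pow_mul, hv2, hc.mul_pow, inv_pow, inv_pow, hu4,
        four_of_sq hv, inv_one, one_mul]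
    have h5 : v⁻¹ * a * v = a⁻¹ := by
      have e : (v * a) ^ 2 = v ^ 2 := by rw [ha, mul_inv_cancel_left, ← map_pow, hτv2]
      have e1 : a * v * a = v := by
        have : v⁻¹ * (v * a) ^ 2 = v⁻¹ * v ^ 2 := by rw [e]
        rw [pow_two, pow_two] at this
        simpa [mul_assoc] using this
      calc v⁻¹ * a * v = v⁻¹ * (a * v * a) * a⁻¹ := by group
        _ = a⁻¹ := by rw [e1]; group
    have ha4 : a ^ 4 = 1 := by
      have := comm_sq h (x := v⁻¹) (by rw [inv_pow, hv8, inv_one]) a
      rw [commutatorElement_def, inv_inv, h5] at this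
      rw [show a⁻¹ * a⁻¹ = (a ^ 2)⁻¹ by rw [pow_two]; group, inv_pow, inv_eq_one, ← pow_mul] at this
      exact this
    have ha2 : a ^ 2 = 1 := by
      rw [((h a ha4 v).symm.inv_left).eq, inv_mul_cancel_right] at h5
      rw [pow_two]
      calc a * a = a * a⁻¹ := by rw [← h5]
        _ = 1 := mul_inv_cancel a
    have hfinal : (z₁ * τ v * v) ^ 2 = 1 := by
      have e : z₁ * τ v * v = z₁ * v ^ 2 * (v⁻¹ * a * v) := by rw [ha]; group
      rw [e, h5, hv2, mul_inv_cancel_left]
      exact mem_omOne.1 (mul_mem (inv_mem (mem_omOne.2 hv)) (inv_mem (mem_omOne (h := h) |>.2 ha2)))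
    refine ⟨u * v, ?_⟩
    have e : z * σ (u * v) * (u * v) = z₁ * τ v * v := by
      rw [hτ, hz₁, map_mul]; group
    rw [e]; exact hfinal

end CfsgLib.NoNormalEight
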